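import Mathlib

/-!
# An element surviving a transfer into an odd abelian group

If every coset of `H` fixed by `z` is represented in a subgroup `S` centralizing `z` and the index of `H ∩ S`
in `S` is prime to the order of `z`, the transfer of a map `φ` at `z` is a power of `φ z` prime to that order.
-/

set_option autoImplicit false
set_option linter.style.haveILetI false

open Subgroup MulAction

namespace Cfsg.Agent.OddTranspX.Kill

universe u v

variable {G : Type u} [Group G] [Finite G]

theorem transfer_kill {H S : Subgroup G} {A : Type v} [CommGroup A] (φ : H →* A) (hA : Odd (Nat.card A))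
    (hgen : closure {v : G | v * v = 1} = ⊤) {r : ℕ} (hr : r.Prime) {z : G} (hz : z ∈ H) (hzr : z ^ r = 1)
    (hS : ∀ s ∈ S, Commute s z) (hfix : ∀ g, g⁻¹ * z * g ∈ H → ∃ s ∈ S, s⁻¹ * g ∈ H)
    (hrel : ¬ r ∣ H.relIndex S) : φ ⟨z, hz⟩ = 1 := by
  classical
  let τ : G →* A := MonoidHom.transfer φ
  have hτ : τ z = 1 := by
    have h1 : closure {v : G | v * v = 1} ≤ τ.ker := (closure_le _).2 fun v hv => MonoidHom.mem_ker.2 (by
      rw [← orderOf_eq_one_iff]
      refine Nat.eq_one_of_dvd_coprimes (Nat.coprime_two_left.2 hA) (orderOf_dvd_of_pow_eq_one ?_)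
        (orderOf_dvd_natCard (τ v))
      rw [pow_two, ← map_mul, show v * v = 1 from hv, map_one])
    exact MonoidHom.mem_ker.1 (h1 (hgen ▸ mem_top z))
  haveI : Fintype (Quotient (orbitRel (zpowers z) (G ⧸ H))) := Fintype.ofFinite _
  have hfac : ∀ q : Quotient (orbitRel (zpowers z) (G ⧸ H)),
      φ ⟨q.out.out⁻¹ * z ^ Function.minimalPeriod (z • ·) q.out * q.out.out,
        QuotientGroup.out_conj_pow_minimalPeriod_mem H z q.out⟩ =
      if z • q.out = q.out then φ ⟨z, hz⟩ else 1 := fun q => by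
    set j := Function.minimalPeriod (z • ·) q.out with hj
    have hper : j ∣ r := Function.IsPeriodicPt.minimalPeriod_dvd (by
      show (z • ·)^[r] q.out = q.out
      rw [smul_iterate, hzr]
      exact one_smul G _)
    by_cases hf : z • q.out = q.out
    · rw [if_pos hf]
      have hj1 : j = 1 := Function.minimalPeriod_eq_one_iff_isFixedPt.2 hf
      set g := q.out.out with hg
      have hm : g⁻¹ * z * g ∈ H := by
        have := QuotientGroup.out_conj_pow_minimalPeriod_mem H z q.out
        rwa [← hj, hj1, pow_one] at this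
      obtain ⟨c, hc, hcH⟩ := hfix g hm
      let n : ↥H := ⟨c⁻¹ * g, hcH⟩
      have e : (⟨g⁻¹ * z ^ j * g, QuotientGroup.out_conj_pow_minimalPeriod_mem H z q.out⟩ : ↥H) =
          n⁻¹ * ⟨z, hz⟩ * n := Subtype.ext (by
        show g⁻¹ * z ^ j * g = (c⁻¹ * g)⁻¹ * z * (c⁻¹ * g)
        rw [hj1, pow_one, show (c⁻¹ * g)⁻¹ * z * (c⁻¹ * g) = g⁻¹ * (c * z) * c⁻¹ * g by group, (hS c hc).eq]
        group)
      rw [e, map_mul, map_mul, map_inv, mul_comm _ (φ n), mul_inv_cancel_left]
    · rw [if_neg hf]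
      have hjr : j = r := ((Nat.dvd_prime hr).1 hper).resolve_left fun e =>
        hf (Function.minimalPeriod_eq_one_iff_isFixedPt.1 e)
      rw [← map_one φ]
      refine congrArg φ (Subtype.ext ?_)
      show q.out.out⁻¹ * z ^ j * q.out.out = 1
      rw [hjr, hzr, mul_one, inv_mul_cancel]
  have hval : φ ⟨z, hz⟩ ^ Nat.card {q : Quotient (orbitRel (zpowers z) (G ⧸ H)) // z • q.out = q.out} = 1 := by
    rw [← hτ]
    show _ = MonoidHom.transfer φ z
    rw [MonoidHom.transfer_eq_prod_quotient_orbitRel_zpowers_quot, Finset.prod_congr rfl fun q _ => hfac q,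
      Finset.prod_ite, Finset.prod_const_one, mul_one, Finset.prod_const, Nat.card_eq_fintype_card,
      Fintype.card_subtype]
  have hfixz : ∀ x : G ⧸ H, z • x = x → ∀ a ∈ zpowers z, a • x = x := fun x hx a ha =>
    (zpowers_le (H := stabilizer G x)).2 hx ha
  have hout : ∀ x : G ⧸ H, z • x = x →
      (Quotient.mk (orbitRel (zpowers z) (G ⧸ H)) x).out = x := fun x hx => by
    obtain ⟨a, ha⟩ := orbitRel_apply.1 (Quotient.mk_out (s := orbitRel (zpowers z) (G ⧸ H)) x)
    rw [← ha]
    exact hfixz x hx a a.2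
  rw [Nat.card_congr
    { toFun := fun q => (⟨q.1.out, q.2⟩ : {x : G ⧸ H // z • x = x})
      invFun := fun x => ⟨Quotient.mk _ x.1, by rw [hout x.1 x.2]; exact x.2⟩
      left_inv := fun q => Subtype.ext (Quotient.out_eq q.1)
      right_inv := fun x => Subtype.ext (hout x.1 x.2) }] at hval
  have horb : {x : G ⧸ H | z • x = x} = orbit ↥S ((1 : G) : G ⧸ H) := by
    ext x
    induction x using QuotientGroup.induction_on with
    | H g =>
      constructor
      · intro hx
        have hm : g⁻¹ * z * g ∈ H := by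
          have h1 : (g : G ⧸ H) = ((z * g : G) : G ⧸ H) := (show ((z * g : G) : G ⧸ H) = g from hx).symm
          rw [QuotientGroup.eq] at h1
          rwa [mul_assoc]
        obtain ⟨c, hc, hcH⟩ := hfix g hm
        refine ⟨⟨c, hc⟩, ?_⟩
        show ((c * 1 : G) : G ⧸ H) = g
        rw [mul_one, QuotientGroup.eq]
        exact hcH
      · rintro ⟨⟨c, hc⟩, hcg⟩
        show z • (g : G ⧸ H) = g
        rw [← hcg]
        show ((z * (c * 1) : G) : G ⧸ H) = ((c * 1 : G) : G ⧸ H)
        rw [mul_one, QuotientGroup.eq, mul_inv_rev, mul_assoc, show z⁻¹ * c = c * z⁻¹ from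
          ((hS c hc).inv_right).eq.symm, inv_mul_cancel_left]
        exact Subgroup.inv_mem _ hz
  change φ ⟨z, hz⟩ ^ Nat.card ↥{x : G ⧸ H | z • x = x} = 1 at hval
  rw [horb, Nat.card_coe_set_eq, ← index_stabilizer] at hval
  have hst : stabilizer ↥S ((1 : G) : G ⧸ H) = H.subgroupOf S := Subgroup.ext fun c => by
    rw [MulAction.mem_stabilizer_iff, mem_subgroupOf]
    show (((c : G) * 1 : G) : G ⧸ H) = ((1 : G) : G ⧸ H) ↔ _
    rw [mul_one, QuotientGroup.eq, mul_one]
    exact inv_mem_iff
  rw [hst] at hval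
  rw [← orderOf_eq_one_iff]
  refine Nat.eq_one_of_dvd_coprimes ((hr.coprime_iff_not_dvd).2 hrel) ?_ (orderOf_dvd_of_pow_eq_one hval)
  refine orderOf_dvd_of_pow_eq_one ?_
  rw [← map_pow, show (⟨z, hz⟩ : ↥H) ^ r = 1 from Subtype.ext hzr, map_one]

end Cfsg.Agent.OddTranspX.Kill
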