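import Cfsg.Agent.Lib.OddTranspX.Kill.Fusion
import Cfsg.Agent.Lib.OddTranspX.Kill.Transfer

/-!
# The torus case: the transfer to `C(y) / ⁅C(y), d⁆` is not trivial

The cosets of `C(y)` fixed by `z` are those of elements of `C(z)`, their number is prime to `r`, so `z`
survives in an odd abelian quotient of `G`, which is generated by involutions.
-/

set_option autoImplicit false
set_option linter.unusedSectionVars false
set_option linter.style.haveILetI false

open Subgroup MulAction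
open scoped commutatorElement

namespace Cfsg.Agent.OddTranspX.Kill

universe u

variable {G : Type u} [Group G] [Finite G]

namespace KillData

variable {r μ : ℕ} {U : Subgroup G} {z y s : G} (h : KillData r μ U z y s)

include h

/-- A conjugate of `z` centralizing `y` is conjugate to `z` by an element of `C(y)`. -/
theorem fixed_coset {g : G} (hg : g⁻¹ * z * g ∈ centralizer ({y} : Set G)) :
    ∃ c : G, Commute c z ∧ c⁻¹ * g ∈ centralizer ({y} : Set G) := by
  have hgz : Commute (g * y * g⁻¹) z := by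
    show g * y * g⁻¹ * z = z * (g * y * g⁻¹)
    calc g * y * g⁻¹ * z = g * (y * (g⁻¹ * z * g)) * g⁻¹ := by group
      _ = g * ((g⁻¹ * z * g) * y) * g⁻¹ := by rw [(mem_cent.1 hg).eq]
      _ = z * (g * y * g⁻¹) := by group
  obtain ⟨c, hcz, hc⟩ := h.local_fusion hgz
  obtain ⟨α, hα⟩ := mem_zpowers_iff.1 hc
  set n := c⁻¹ * g with hn
  have hny : n * y * n⁻¹ = y ^ α := by rw [hα, hn]; group
  set d := s * s with hd
  have hdi : d⁻¹ = d := h.di
  have hdy : d * y * d⁻¹ = y⁻¹ := h.dy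
  set k := n⁻¹ * d * n * d⁻¹ with hk
  have hny' : n⁻¹ * y ^ α * n = y := by rw [← hny]; group
  have hky : Commute k y := by
    refine mul_inv_eq_iff_eq_mul.1 ?_
    calc k * y * k⁻¹ = n⁻¹ * (d * (n * (d⁻¹ * y * d) * n⁻¹) * d⁻¹) * n := by rw [hk]; group
      _ = n⁻¹ * (d * (n * y⁻¹ * n⁻¹) * d⁻¹) * n := by
        rw [show d⁻¹ * y * d = d⁻¹ * y * d⁻¹⁻¹ by rw [inv_inv], hdi, hdy]
      _ = n⁻¹ * (d * (y ^ α)⁻¹ * d⁻¹) * n := by rw [← hny]; group
      _ = n⁻¹ * y ^ α * n := by
        rw [← zpow_neg, ← conj_zpow, hdy, inv_zpow, ← zpow_neg, neg_neg]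
      _ = y := hny'
  have hkd : d * k * d⁻¹ = k⁻¹ := by
    calc d * k * d⁻¹ = d * n⁻¹ * d * n * (d⁻¹ * d⁻¹) := by rw [hk]; group
      _ = d * n⁻¹ * d⁻¹ * n * (d⁻¹ * d⁻¹) := by rw [hdi]
      _ = d * n⁻¹ * d⁻¹ * n := by rw [hdi, h.dd, mul_one]
      _ = k⁻¹ := by rw [hk]; group
  obtain ⟨m, hm⟩ := h.odd_orderOf hky
  set b := k ^ (m + 1) with hb
  have hbb : b * b = k := by
    rw [hb, ← pow_add, show m + 1 + (m + 1) = orderOf k + 1 by omega, pow_succ, pow_orderOf_eq_one, one_mul]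
  have hbd : d * b * d⁻¹ = b⁻¹ := by rw [hb, ← conj_pow, hkd, inv_pow]
  set n' := n * b with hn'
  have hby : Commute b y := hky.pow_left _
  have hn'd : Commute n' d := by
    refine (mul_inv_eq_iff_eq_mul.1 ?_).symm
    have e1 : d * n * d⁻¹ = n * k := by rw [hk]; group
    rw [hn', show d * (n * b) * d⁻¹ = d * n * d⁻¹ * (d * b * d⁻¹) by group, e1, hbd, ← hbb]
    group
  have hn'y : n' * y * n'⁻¹ = y ^ α := by
    rw [hn', show n * b * y * (n * b)⁻¹ = n * (b * y * b⁻¹) * n⁻¹ by group, hby.eq, mul_inv_cancel_right, hny]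
  set x := n'⁻¹ * z * n' with hx
  have hxd : Commute x d := (hn'd.inv_left.mul_left h.zd).mul_left hn'd
  have hxy : Commute x y := by
    have h1 : Commute z (n' * y * n'⁻¹) := hn'y ▸ h.zy.zpow_right α
    show n'⁻¹ * z * n' * y = y * (n'⁻¹ * z * n')
    calc n'⁻¹ * z * n' * y = n'⁻¹ * (z * (n' * y * n'⁻¹)) * n' := by group
      _ = n'⁻¹ * ((n' * y * n'⁻¹) * z) * n' := by rw [h1.eq]
      _ = y * (n'⁻¹ * z * n') := by group
  have hxF : x ∈ centralizer ({y} : Set G) ⊓ centralizer ({s * s} : Set G) := ⟨mem_cent.2 hxy, mem_cent.2 hxd⟩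
  have hxz : n'⁻¹ * z * n'⁻¹⁻¹ ∈ zpowers z := by
    rw [inv_inv, ← hx]
    haveI := h.Fcyc
    obtain ⟨i, hi⟩ := mem_zpowers_iff.1 (mem_zpowers_of_pow_eq_one
      (a := (⟨z, h.zF⟩ : ↥(centralizer ({y} : Set G) ⊓ centralizer ({s * s} : Set G)))) (b := ⟨x, hxF⟩)
      (Subtype.ext (by
        show x ^ orderOf (⟨z, h.zF⟩ : ↥(centralizer ({y} : Set G) ⊓ centralizer ({s * s} : Set G))) = 1
        rw [← Subgroup.orderOf_coe]
        show x ^ orderOf z = 1
        rw [h.oz, hx]
        simpa [h.zr] using (conj_pow (i := r) (a := n'⁻¹) (b := z)))))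
    exact ⟨i, congrArg Subtype.val hi⟩
  have hcn : Commute n' z := by simpa using (h.nz _ hxz).inv_left
  refine ⟨c * n', hcz.mul_left hcn, mem_cent.2 ?_⟩
  rw [hn', hn, show (c * (c⁻¹ * g * b))⁻¹ * g = b⁻¹ by group]
  exact hby.inv_left

/-- The configuration is impossible. -/
theorem false (hgen : closure {v : G | v * v = 1} = ⊤) : False := by
  classical
  haveI := h.fact
  set d := s * s with hd
  set Q := centralizer ({y} : Set G) with hQ
  set N := ⁅Q, zpowers d⁆ with hN
  have hNQ : N ≤ Q := Coprime.commutator_le_of_le_normalizer h.qdata.d_norm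
  haveI hNn : (N.subgroupOf Q).Normal :=
    ⟨fun a ha g => (mem_normalizer_iff.1 (normalizer_commutator_ge_left Q (zpowers d) g.2) _).1 ha⟩
  have hrep : ∀ a : ↥Q, ∃ c : ↥Q, d * (c : G) = c * d ∧
      (QuotientGroup.mk a : ↥Q ⧸ N.subgroupOf Q) = QuotientGroup.mk c := fun a => by
    obtain ⟨c, hc, x, hx, e⟩ := Coprime.exists_eq_centralizer_mul_commutator h.qdata.d_norm
      (h.qdata.coprime le_rfl) (Or.inl h.qdata.solvable) a.2
    refine ⟨⟨c, hc.1⟩, mem_centralizer_iff.1 hc.2 d (mem_zpowers d), (QuotientGroup.eq.2 ?_).symm⟩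
    show c⁻¹ * (a : G) ∈ N
    rw [e, inv_mul_cancel_left]
    exact hx
  letI : CommGroup (↥Q ⧸ N.subgroupOf Q) :=
    { (inferInstance : Group (↥Q ⧸ N.subgroupOf Q)) with
      mul_comm := by
        intro a b
        induction a using QuotientGroup.induction_on with
        | H a =>
          induction b using QuotientGroup.induction_on with
          | H b =>
            obtain ⟨c, hc, e⟩ := hrep a
            obtain ⟨c', hc', e'⟩ := hrep b
            rw [e, e', ← QuotientGroup.mk_mul, ← QuotientGroup.mk_mul]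
            exact congrArg _ (Subtype.ext (h.qdata.ab _ c.2 hc _ c'.2 hc')) }
  let φ : ↥Q →* ↥Q ⧸ N.subgroupOf Q := QuotientGroup.mk' _
  have hzQ : z ∈ Q := mem_cent.2 h.zy
  obtain ⟨P, L⟩ := h.exists_local
  have hr : ¬ r ∣ Q.relIndex (centralizer ({z} : Set G)) := fun hd' => by
    set C := centralizer ({z} : Set G)
    obtain ⟨S', hS'⟩ := (L.pgroup.comap_of_injective C.subtype Subtype.coe_injective).exists_le_sylow
    have he : P.subgroupOf C = (S' : Subgroup C) := eq_of_le_of_card_ge hS' (by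
      rw [Nat.card_congr (Subgroup.subgroupOfEquivOfLe L.le).toEquiv,
        ← Subgroup.card_map_of_injective C.subtype_injective]
      exact L.max _ (map_subtype_le _) (S'.2.map _))
    refine S'.not_dvd_index (hd'.trans ?_)
    rw [← he]
    exact relIndex_dvd_of_le_left C (fun x hx => mem_cent.2 (L.central x hx))
  have hone : φ ⟨z, hzQ⟩ = 1 :=
    transfer_kill φ (h.oddQ.of_dvd_nat (card_quotient_dvd_card _)) hgen h.prime hzQ h.zr
      (fun c hc => mem_cent.1 hc) (fun g hg => by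
        obtain ⟨c, hc, hcQ⟩ := h.fixed_coset hg
        exact ⟨c, mem_cent.2 hc, hcQ⟩) hr
  have hm := (QuotientGroup.eq_one_iff (N := N.subgroupOf Q) (⟨z, hzQ⟩ : ↥Q)).1 hone
  exact h.not_mem_comm hm

end KillData

end Cfsg.Agent.OddTranspX.Kill
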