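import Cfsg.Agent.Lib.Coprime.Commutator
import Cfsg.Agent.Lib.Walter.Core.Tools
import Cfsg.Agent.Solvable.Basics
import Cfsg.Agent.Lib.OddTranspX.TorusSubBasic

/-!
# The `r`-group of a centralizer is a split extension of an inverted abelian group

`R` is an `r`-group normalized by `s`, the fixed points of `d = s * s` in `R` are powers of `w`, `z` is the
power of `w` of order `r`, `y` is central of order `r` with `s y s⁻¹ = y ^ μ`, `μ ^ 2 = -1` modulo `r`, and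
`C_R(z) = T ⟨w⟩` with `T` cyclic and inverted.  Then `z` is outside `⁅R, d⁆`.
-/

set_option autoImplicit false
set_option linter.unusedSectionVars false
set_option linter.style.haveILetI false

open Subgroup
open scoped commutatorElement

namespace Cfsg.Agent.OddTranspX.Kill

open Cfsg.Agent.Walter.Core (mem_of_sq odd_orderOf_of_mem mem_normalizer_of_conj_le)

variable {G : Type*} [Group G] [Finite G]

/-- The data in the `r`-group. -/
structure RData (r μ : ℕ) (R T : Subgroup G) (s d y w z : G) : Prop where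
  prime : r.Prime
  ne_two : r ≠ 2
  hμ : r ∣ μ * μ + 1
  pgroup : IsPGroup r ↥R
  sq : s * s = d
  dd : d * d = 1
  norm : ∀ x ∈ R, s * x * s⁻¹ ∈ R
  oy : orderOf y = r
  sy : s * y * s⁻¹ = y ^ μ
  central : ∀ x ∈ R, x * y = y * x
  sw : s * w = w * s
  wR : w ∈ R
  zw : z ∈ zpowers w
  oz : orderOf z = r
  line : ∀ x ∈ R, d * x = x * d → x ∈ zpowers w
  TR : T ≤ R
  yT : y ∈ T
  Tcyc : IsCyclic T
  Tinv : ∀ t ∈ T, d * t * d⁻¹ = t⁻¹
  Tz : ∀ t ∈ T, t * z = z * t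
  Tnorm : ∀ x ∈ R, x * z = z * x → ∀ t ∈ T, x * t * x⁻¹ ∈ T
  split : ∀ x ∈ R, x * z = z * x → ∃ t ∈ T, ∃ i : ℤ, x = t * w ^ i

namespace RData

variable {r μ : ℕ} {R T : Subgroup G} {s d y w z : G} (h : RData r μ R T s d y w z)

include h

theorem di : d⁻¹ = d := inv_eq_of_mul_eq_one_right h.dd

theorem norm_d {x : G} (hx : x ∈ R) : d * x * d⁻¹ ∈ R := by
  rw [← h.sq, show s * s * x * (s * s)⁻¹ = s * (s * x * s⁻¹) * s⁻¹ by group]
  exact h.norm _ (h.norm x hx)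

theorem dw : Commute d w := by
  have c : Commute s w := h.sw
  exact h.sq ▸ c.mul_left c

theorem zR : z ∈ R := zpowers_le.2 h.wR h.zw

theorem dz : Commute d z := by
  obtain ⟨i, hi⟩ := h.zw
  exact hi ▸ h.dw.zpow_right i

theorem sz : Commute s z := by
  obtain ⟨i, hi⟩ := h.zw
  exact hi ▸ (show Commute s w from h.sw).zpow_right i

theorem yR : y ∈ R := h.TR h.yT

theorem odd_R : Odd (Nat.card ↥R) := by
  haveI : Fact r.Prime := ⟨h.prime⟩
  obtain ⟨k, hk⟩ := IsPGroup.iff_card.1 h.pgroup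
  exact hk ▸ (h.prime.odd_of_ne_two h.ne_two).pow

theorem exists_pow {x : G} (hx : x ∈ R) : ∃ k, orderOf x = r ^ k := by
  haveI : Fact r.Prime := ⟨h.prime⟩
  obtain ⟨k, hk⟩ := IsPGroup.iff_orderOf.1 h.pgroup ⟨x, hx⟩
  exact ⟨k, by rwa [Subgroup.orderOf_mk] at hk⟩

/-- An element fixed and inverted is trivial. -/
theorem eq_one {x : G} (hx : x ∈ R) (hf : d * x = x * d) (hi : d * x * d⁻¹ = x⁻¹) : x = 1 := by
  rw [hf, mul_inv_cancel_right] at hi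
  have h2 : x * x ∈ (⊥ : Subgroup G) := mem_bot.2 (mul_eq_one_iff_eq_inv.2 hi)
  exact mem_bot.1 (mem_of_sq (odd_orderOf_of_mem h.odd_R hx) h2)

theorem z_ne : z ≠ 1 := fun e => h.prime.ne_one (by rw [← h.oz, e, orderOf_one])

theorem y_ne : y ≠ 1 := fun e => h.prime.ne_one (by rw [← h.oy, e, orderOf_one])

theorem zr : z ^ r = 1 := h.oz ▸ pow_orderOf_eq_one z

theorem yr : y ^ r = 1 := h.oy ▸ pow_orderOf_eq_one y

theorem dvd_of_zpow {g : G} (hg : orderOf g = r) {n : ℤ} (hn : g ^ n = 1) : (r : ℤ) ∣ n :=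
  hg ▸ orderOf_dvd_iff_zpow_eq_one.2 hn

theorem zpow_eq_one_of_dvd {g : G} (hg : g ^ r = 1) {n : ℤ} (hn : (r : ℤ) ∣ n) : g ^ n = 1 := by
  obtain ⟨c, rfl⟩ := hn
  rw [zpow_mul, zpow_natCast, hg, one_zpow]

theorem dy : d * y * d⁻¹ = y⁻¹ := by
  rw [← h.sq, show s * s * y * (s * s)⁻¹ = s * (s * y * s⁻¹) * s⁻¹ by group, h.sy, ← conj_pow, h.sy,
    eq_comm, inv_eq_iff_mul_eq_one, ← pow_mul, ← pow_succ']
  exact orderOf_dvd_iff_pow_eq_one.1 (h.oy ▸ h.hμ)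

/-- The elements of order `r` among the powers of `w` are the powers of `z`. -/
theorem mem_z {x : G} (hx : x ∈ zpowers w) (hr : x ^ r = 1) : x ∈ zpowers z := by
  obtain ⟨i, hi⟩ := mem_zpowers_iff.1 (mem_zpowers_of_pow_eq_one (A := ↥(zpowers w)) (a := ⟨z, h.zw⟩)
    (b := ⟨x, hx⟩) (Subtype.ext (by rw [Subgroup.orderOf_mk, h.oz]; simpa using hr)))
  exact ⟨i, congrArg Subtype.val hi⟩

/-- The elements of order `r` of `T` are the powers of `y`. -/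
theorem mem_y {x : G} (hx : x ∈ T) (hr : x ^ r = 1) : x ∈ zpowers y := by
  haveI := h.Tcyc
  obtain ⟨i, hi⟩ := mem_zpowers_iff.1 (mem_zpowers_of_pow_eq_one (A := ↥T) (a := ⟨y, h.yT⟩)
    (b := ⟨x, hx⟩) (Subtype.ext (by rw [Subgroup.orderOf_mk, h.oy]; simpa using hr)))
  exact ⟨i, congrArg Subtype.val hi⟩

theorem wT {t : G} (ht : t ∈ T) (i : ℤ) : w ^ i * t * (w ^ i)⁻¹ ∈ T := by
  obtain ⟨k, hk⟩ := h.zw
  refine h.Tnorm _ (zpow_mem h.wR i) ?_ t ht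
  rw [← hk]; exact ((Commute.refl w).zpow_zpow i k).eq

/-- The inverted part of an element of `C_R(z)`. -/
theorem mem_T {t : G} (ht : t ∈ T) {i : ℤ} (hinv : d * (t * w ^ i) * d⁻¹ = (t * w ^ i)⁻¹) :
    w ^ i = 1 := by
  have hdi : d * w ^ i * d⁻¹ = w ^ i := by rw [(h.dw.zpow_right i).eq, mul_inv_cancel_right]
  rw [show d * (t * w ^ i) * d⁻¹ = d * t * d⁻¹ * (d * w ^ i * d⁻¹) by group, h.Tinv t ht, hdi,
    mul_inv_rev] at hinv
  -- `w ^ (2 i)` lies in `T`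
  have h2 : w ^ i * w ^ i ∈ T := by
    have e : w ^ i * w ^ i = (w ^ i * t * (w ^ i)⁻¹) * t⁻¹ := by
      calc w ^ i * w ^ i = w ^ i * (t * (t⁻¹ * w ^ i)) := by group
        _ = w ^ i * (t * ((w ^ i)⁻¹ * t⁻¹)) := by rw [hinv]
        _ = (w ^ i * t * (w ^ i)⁻¹) * t⁻¹ := by group
    rw [e]; exact mul_mem (h.wT ht i) (inv_mem ht)
  have hcd : Commute d (w ^ i * w ^ i) := (h.dw.zpow_right i).mul_right (h.dw.zpow_right i)
  have h3 := h.eq_one (h.TR h2) hcd.eq (h.Tinv _ h2)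
  exact mem_bot.1 (mem_of_sq (odd_orderOf_of_mem h.odd_R (zpow_mem h.wR i)) (mem_bot.2 h3))

omit h in
/-- A subgroup whose members are inverted is abelian. -/
theorem comm_of_inverted {B : Subgroup G} (hB : ∀ b ∈ B, d * b * d⁻¹ = b⁻¹) {a b : G} (ha : a ∈ B)
    (hb : b ∈ B) : a * b = b * a := by
  have h1 : d * (a * b) * d⁻¹ = a⁻¹ * b⁻¹ := by rw [← hB a ha, ← hB b hb]; group
  rw [hB _ (mul_mem ha hb), mul_inv_rev] at h1
  rw [← inv_inj, mul_inv_rev, mul_inv_rev, h1]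

omit h in
theorem inverted_sup {B J : Subgroup G} (hB : ∀ b ∈ B, d * b * d⁻¹ = b⁻¹)
    (hJ : ∀ b ∈ J, d * b * d⁻¹ = b⁻¹) (hBJ : ∀ b ∈ B, ∀ c ∈ J, b * c = c * b) {z : G} (hz : z ∈ B ⊔ J) :
    d * z * d⁻¹ = z⁻¹ := by
  have hn : J ≤ normalizer (B : Set G) := fun c hc =>
    centralizer_le_normalizer (B : Set G) (mem_centralizer_iff.2 fun b hb => hBJ b hb c hc)
  rw [← SetLike.mem_coe, coe_mul_of_right_le_normalizer_left _ _ hn] at hz
  obtain ⟨b, hb, c, hc, rfl⟩ := hz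
  rw [show d * (b * c) * d⁻¹ = d * b * d⁻¹ * (d * c * d⁻¹) by group, hB b hb, hJ c hc, mul_inv_rev]
  exact ((show Commute b c from hBJ b hb c hc).inv_inv).eq

theorem zpowers_inverted {x : G} (hx : d * x * d⁻¹ = x⁻¹) {b : G} (hb : b ∈ zpowers x) :
    d * b * d⁻¹ = b⁻¹ := by
  obtain ⟨i, rfl⟩ := hb
  show d * x ^ i * d⁻¹ = (x ^ i)⁻¹
  rw [← conj_zpow, hx, inv_zpow]

/-- The central case. -/
theorem central_case (hall : ∀ x ∈ R, x * z * x⁻¹ * z⁻¹ ∈ zpowers y) :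
    ∃ B ≤ R, (∀ b ∈ B, d * b * d⁻¹ = b⁻¹) ∧ ⁅R, zpowers d⁆ ≤ B := by
  classical
  haveI : Fact r.Prime := ⟨h.prime⟩
  have hbase : ∀ x ∈ R, x * z = z * x → x * d * x⁻¹ * d ∈ T := by
    intro x hx hxz
    obtain ⟨t, ht, i, rfl⟩ := h.split x hx hxz
    have h1 : d * t⁻¹ * d = t := by
      have h2 := h.Tinv _ (inv_mem ht)
      rwa [h.di, inv_inv] at h2
    rw [show t * w ^ i * d * (t * w ^ i)⁻¹ * d = t * (w ^ i * d * (w ^ i)⁻¹) * t⁻¹ * d by group,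
      ← (h.dw.zpow_right i).eq, mul_inv_cancel_right,
      show t * d * t⁻¹ * d = t * (d * t⁻¹ * d) by group, h1]
    exact mul_mem ht ht
  have hcomm : ∀ (B : Subgroup G), (∀ x ∈ R, x * d * x⁻¹ * d ∈ B) → ⁅R, zpowers d⁆ ≤ B := by
    intro B hB
    refine commutator_le.2 fun x hx e he => ?_
    obtain ⟨i, rfl⟩ := he
    show ⁅x, d ^ i⁆ ∈ B
    rcases Int.even_or_odd i with ⟨m, rfl⟩ | ⟨m, rfl⟩
    · rw [← two_mul, zpow_mul, zpow_two, h.dd, one_zpow, commutatorElement_one_right]; exact one_mem B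
    · rw [zpow_add, zpow_mul, zpow_two, h.dd, one_zpow, zpow_one, one_mul, commutatorElement_def, h.di]
      exact hB x hx
  by_cases hR0 : ∀ x ∈ R, x * z = z * x
  · exact ⟨T, h.TR, h.Tinv, hcomm T fun x hx => hbase x hx (hR0 x hx)⟩
  push Not at hR0
  obtain ⟨r₁, hr₁, hr₁z⟩ := hR0
  -- `x ↦ x z x⁻¹ z⁻¹` is a homomorphism to the powers of `y`
  let ψ : G → G := fun x => x * z * x⁻¹ * z⁻¹
  have hψ1 : ∀ x, ψ x = 1 ↔ x * z = z * x := fun x => by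
    show x * z * x⁻¹ * z⁻¹ = 1 ↔ _
    rw [mul_inv_eq_one, mul_inv_eq_iff_eq_mul]
  have hψone : ψ 1 = 1 := (hψ1 1).2 (by rw [one_mul, mul_one])
  have hψm : ∀ x ∈ R, ∀ x' ∈ R, ψ (x * x') = ψ x' * ψ x := by
    intro x hx x' hx'
    obtain ⟨i, hi⟩ := mem_zpowers_iff.1 (hall x' hx')
    have c : Commute x (y ^ i) := (show Commute x y from h.central x hx).zpow_right i
    show x * x' * z * (x * x')⁻¹ * z⁻¹ = (x' * z * x'⁻¹ * z⁻¹) * (x * z * x⁻¹ * z⁻¹)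
    calc x * x' * z * (x * x')⁻¹ * z⁻¹ = x * (x' * z * x'⁻¹ * z⁻¹) * z * x⁻¹ * z⁻¹ := by group
      _ = x' * z * x'⁻¹ * z⁻¹ * (x * z * x⁻¹ * z⁻¹) := by rw [← hi, c.eq]; group
  have hψd : ∀ x ∈ R, ψ (d * x * d⁻¹) = (ψ x)⁻¹ := by
    intro x hx
    obtain ⟨i, hi⟩ := mem_zpowers_iff.1 (hall x hx)
    have h1 : d * z * d⁻¹ = z := by rw [h.dz.eq, mul_inv_cancel_right]
    show d * x * d⁻¹ * z * (d * x * d⁻¹)⁻¹ * z⁻¹ = _
    calc d * x * d⁻¹ * z * (d * x * d⁻¹)⁻¹ * z⁻¹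
        = d * x * d⁻¹ * (d * z * d⁻¹) * (d * x * d⁻¹)⁻¹ * (d * z * d⁻¹)⁻¹ := by rw [h1]
      _ = d * (x * z * x⁻¹ * z⁻¹) * d⁻¹ := by group
      _ = (ψ x)⁻¹ := by show _ = (x * z * x⁻¹ * z⁻¹)⁻¹; rw [← hi, ← conj_zpow, h.dy, inv_zpow]
  set g₀ := r₁ * (d * r₁⁻¹ * d⁻¹) with hg₀_def
  have hgR : g₀ ∈ R := mul_mem hr₁ (h.norm_d (inv_mem hr₁))
  have hg_inv : d * g₀ * d⁻¹ = g₀⁻¹ := by
    rw [hg₀_def, show d * (r₁ * (d * r₁⁻¹ * d⁻¹)) * d⁻¹ = d * r₁ * (d * r₁⁻¹ * (d * d)⁻¹) by group, h.dd,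
      inv_one, mul_one, mul_inv_rev, show (d * r₁⁻¹ * d⁻¹)⁻¹ * r₁⁻¹ = d * r₁ * d⁻¹ * r₁⁻¹ by group, h.di]
    group
  have hψR : ∀ x ∈ R, ψ x ∈ R := fun x hx =>
    show x * z * x⁻¹ * z⁻¹ ∈ R from mul_mem (mul_mem (mul_mem hx h.zR) (inv_mem hx)) (inv_mem h.zR)
  have hg_z : ψ g₀ ≠ 1 := by
    intro e
    have h1 : ψ r₁⁻¹ = (ψ r₁)⁻¹ := by
      refine eq_inv_of_mul_eq_one_left ?_
      rw [← hψm r₁ hr₁ r₁⁻¹ (inv_mem hr₁), mul_inv_cancel, hψone]
    rw [hg₀_def, hψm r₁ hr₁ _ (h.norm_d (inv_mem hr₁)), hψd _ (inv_mem hr₁), h1, inv_inv] at e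
    refine hr₁z ((hψ1 r₁).1 ?_)
    exact mem_bot.1 (mem_of_sq (odd_orderOf_of_mem h.odd_R (hψR r₁ hr₁)) (mem_bot.2 e))
  have hψord : orderOf (ψ g₀) = r := by
    obtain ⟨i, hi⟩ := mem_zpowers_iff.1 (hall g₀ hgR)
    refine orderOf_eq_prime ?_ hg_z
    show (g₀ * z * g₀⁻¹ * z⁻¹) ^ r = 1
    rw [← hi, ← zpow_natCast, ← zpow_mul, mul_comm, zpow_mul, zpow_natCast, h.yr, one_zpow]
  have hpow : ∀ k : ℕ, ψ (g₀ ^ k) = ψ g₀ ^ k := fun k => by
    induction k with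
    | zero => rw [pow_zero, pow_zero, hψone]
    | succ k ih => rw [pow_succ, hψm _ (pow_mem hgR k) g₀ hgR, ih, pow_succ']
  -- every element is a power of `g₀` times an element centralizing `z`
  have hgen : ∀ x ∈ R, ∃ n : ℕ, ∃ x0 ∈ R, x0 * z = z * x0 ∧ x = g₀ ^ n * x0 := by
    intro x hx
    have hzp : zpowers (ψ g₀) = zpowers y :=
      eq_of_le_of_card_ge (zpowers_le.2 (hall g₀ hgR)) (by rw [Nat.card_zpowers, Nat.card_zpowers, hψord, h.oy])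
    obtain ⟨n, hn⟩ := (mem_zpowers_iff_mem_range_orderOf.1 (hzp.symm ▸ hall x hx : ψ x ∈ zpowers (ψ g₀)) :
      ψ x ∈ _) |> Finset.mem_image.1
    refine ⟨n, (g₀ ^ n)⁻¹ * x, mul_mem (inv_mem (pow_mem hgR n)) hx, (hψ1 _).1 ?_,
      (mul_inv_cancel_left _ _).symm⟩
    have h1 : ψ (g₀ ^ n * ((g₀ ^ n)⁻¹ * x)) = ψ ((g₀ ^ n)⁻¹ * x) * ψ (g₀ ^ n) :=
      hψm _ (pow_mem hgR n) _ (mul_mem (inv_mem (pow_mem hgR n)) hx)
    rw [mul_inv_cancel_left, hpow, hn.2] at h1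
    exact mul_eq_right.1 h1.symm
  -- conjugation by `g₀` keeps the centralizer of `z`
  have hgC : ∀ x ∈ R, x * z = z * x → (g₀ * x * g₀⁻¹) * z = z * (g₀ * x * g₀⁻¹) := by
    intro x hx hxz
    refine (hψ1 _).1 ?_
    rw [hψm _ (mul_mem hgR hx) g₀⁻¹ (inv_mem hgR), hψm g₀ hgR x hx, (hψ1 x).2 hxz, one_mul,
      ← hψm g₀ hgR g₀⁻¹ (inv_mem hgR), mul_inv_cancel, hψone]
  -- it keeps `T`
  haveI := h.Tcyc
  obtain ⟨⟨t₀, ht₀⟩, hT0⟩ := IsCyclic.exists_generator (α := T)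
  have hT0' : ∀ t ∈ T, t ∈ zpowers t₀ := fun t ht => by
    obtain ⟨i, hi⟩ := mem_zpowers_iff.1 (hT0 ⟨t, ht⟩)
    exact ⟨i, congrArg Subtype.val hi⟩
  have hgT : g₀ * t₀ * g₀⁻¹ ∈ T := by
    obtain ⟨t', ht', i, e⟩ := h.split _ (mul_mem (mul_mem hgR (h.TR ht₀)) (inv_mem hgR))
      (hgC t₀ (h.TR ht₀) (h.Tz t₀ ht₀))
    rw [e]
    suffices hw1 : w ^ i = 1 by rw [hw1, mul_one]; exact ht'
    by_contra hw1
    obtain ⟨k, hk⟩ := h.exists_pow (zpow_mem h.wR i)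
    obtain ⟨k, rfl⟩ : ∃ j, k = j + 1 := by
      refine ⟨k - 1, ?_⟩
      rcases k with _ | k
      · exact absurd (orderOf_eq_one_iff.1 (by rw [hk, pow_zero])) hw1
      · omega
    set g := (w ^ i) ^ r ^ k with hg
    have hgr : g ^ r = 1 := by rw [hg, ← pow_mul, ← pow_succ, ← hk, pow_orderOf_eq_one]
    have hg1 : g ≠ 1 := by
      intro e1
      exact absurd (Nat.le_of_dvd (pow_pos h.prime.pos k) (hk ▸ orderOf_dvd_of_pow_eq_one e1))
        (Nat.pow_lt_pow_right h.prime.one_lt (Nat.lt_succ_self k)).not_ge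
    have hgz : g ∈ zpowers z := h.mem_z (pow_mem (zpow_mem (mem_zpowers w) i) _) hgr
    obtain ⟨ew, hew⟩ := mem_zpowers_iff.1 hgz
    have hgo : orderOf g = r := orderOf_eq_prime hgr hg1
    have hjg : ∀ t ∈ T, Commute t g := fun t ht => hew ▸ (show Commute t z from h.Tz t ht).zpow_right ew
    set j := t₀ ^ r ^ k with hj
    have hjT : j ∈ T := pow_mem ht₀ _
    obtain ⟨j', hj'T, ej⟩ : ∃ j' ∈ T, g₀ * j * g₀⁻¹ = j' * g := by
      have key : ∀ n : ℕ, ∃ t ∈ T, (t' * w ^ i) ^ n = t * (w ^ i) ^ n := by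
        intro n
        induction n with
        | zero => exact ⟨1, one_mem T, by simp⟩
        | succ n ih =>
          obtain ⟨t, ht, et⟩ := ih
          refine ⟨t * ((w ^ i) ^ n * t' * ((w ^ i) ^ n)⁻¹), mul_mem ht ?_, ?_⟩
          · rw [← zpow_natCast, ← zpow_mul]; exact h.wT ht' _
          · rw [pow_succ, et, pow_succ]; group
      obtain ⟨t, ht, et⟩ := key (r ^ k)
      exact ⟨t, ht, by rw [hj, ← conj_pow, e, et]⟩
    have hdg : Commute d g := hew ▸ h.dz.zpow_right ew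
    have hkill : ∀ n : ℤ, ∀ t ∈ T, t * g ^ n = 1 → g ^ n = 1 := fun n t ht htn => by
      have ht' : t = (g ^ n)⁻¹ := eq_inv_of_mul_eq_one_left htn
      have htd : d * t = t * d := ht' ▸ (hdg.zpow_right n).inv_right.eq
      have := h.eq_one (h.TR ht) htd (h.Tinv t ht)
      rwa [this, one_mul] at htn
    have hcycT : ∀ t ∈ T, t ^ orderOf j = 1 → t ∈ zpowers j := fun t ht htn => by
      obtain ⟨l, hl⟩ := mem_zpowers_iff.1 (mem_zpowers_of_pow_eq_one (A := ↥T) (a := ⟨j, hjT⟩)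
        (b := ⟨t, ht⟩) (Subtype.ext (by rw [Subgroup.orderOf_mk]; simpa using htn)))
      exact ⟨l, congrArg Subtype.val hl⟩
    obtain ⟨α, hα⟩ : ∃ α : ℤ, j ^ α = j' := by
      refine mem_zpowers_iff.1 (hcycT j' hj'T ?_)
      have h1 : j' ^ orderOf j * g ^ (orderOf j : ℤ) = 1 := by
        rw [zpow_natCast, ← (hjg j' hj'T).mul_pow, ← ej, conj_pow, pow_orderOf_eq_one, mul_one,
          mul_inv_cancel]
      rwa [hkill _ _ (pow_mem hj'T _) h1, mul_one] at h1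
    have hj1 : j ≠ 1 := fun e1 => hg1 (by
      have h1 := ej
      rw [← hα, e1, one_zpow, one_mul, mul_one, mul_inv_cancel] at h1
      exact h1.symm)
    obtain ⟨t, hty⟩ : ∃ t : ℤ, j ^ t = y := by
      obtain ⟨l, hl⟩ := h.exists_pow (h.TR hjT)
      rcases l with _ | l
      · exact absurd (orderOf_eq_one_iff.1 (by rw [hl, pow_zero])) hj1
      have hrj : (j ^ r ^ l) ^ r = 1 := by rw [← pow_mul, ← pow_succ, ← hl, pow_orderOf_eq_one]
      have hne : j ^ r ^ l ≠ 1 := fun e1 =>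
        absurd (Nat.le_of_dvd (pow_pos h.prime.pos l) (hl ▸ orderOf_dvd_of_pow_eq_one e1))
          (Nat.pow_lt_pow_right h.prime.one_lt (Nat.lt_succ_self l)).not_ge
      have hz : zpowers (j ^ r ^ l) = zpowers y := eq_of_le_of_card_ge
        (zpowers_le.2 (h.mem_y (pow_mem hjT _) hrj))
        (by rw [Nat.card_zpowers, Nat.card_zpowers, orderOf_eq_prime hrj hne, h.oy])
      have : y ∈ zpowers j :=
        zpowers_le.2 (pow_mem (mem_zpowers j) _) (hz.symm ▸ mem_zpowers y : y ∈ zpowers (j ^ r ^ l))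
      exact mem_zpowers_iff.1 this
    -- `α` is one modulo `r`
    have hα1 : (r : ℤ) ∣ α - 1 := by
      have h1 : j' ^ t * g ^ t = j ^ t := by
        rw [← (hjg j' hj'T).mul_zpow, ← ej, conj_zpow, hty, h.central g₀ hgR, mul_inv_cancel_right]
      have hgt : g ^ t = 1 := hkill t (j ^ (-t) * j' ^ t) (mul_mem (zpow_mem hjT _) (zpow_mem hj'T _))
        (by rw [mul_assoc, h1, ← zpow_add, neg_add_cancel, zpow_zero])
      rw [hgt, mul_one, ← hα, ← zpow_mul, mul_comm, zpow_mul, hty] at h1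
      refine h.dvd_of_zpow h.oy ?_
      rw [zpow_sub, h1, zpow_one, mul_inv_cancel]
    have htr : (r : ℤ) ∣ t := by
      refine h.dvd_of_zpow hgo (hkill t (j ^ (-t) * j' ^ t) (mul_mem (zpow_mem hjT _) (zpow_mem hj'T _)) ?_)
      rw [mul_assoc, ← (hjg j' hj'T).mul_zpow, ← ej, conj_zpow, hty, h.central g₀ hgR, mul_inv_cancel_right,
        ← hty, ← zpow_add, neg_add_cancel, zpow_zero]
    -- conjugation by `s`
    have hszz : s * z * s⁻¹ = z := by rw [h.sz.eq, mul_inv_cancel_right]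
    have hsT : ∀ a ∈ T, s * a * s⁻¹ ∈ T := fun a ha => by
      have hc : s * a * s⁻¹ * z = z * (s * a * s⁻¹) := by
        conv_lhs => rw [← hszz]
        conv_rhs => rw [← hszz]
        rw [show s * a * s⁻¹ * (s * z * s⁻¹) = s * (a * z) * s⁻¹ by group, h.Tz a ha]; group
      obtain ⟨u, hu, l, el⟩ := h.split _ (h.norm a (h.TR ha)) hc
      rw [el, h.mem_T hu (i := l) ?_, mul_one]; · exact hu
      rw [← el, show d * (s * a * s⁻¹) * d⁻¹ = s * (d * a * d⁻¹) * s⁻¹ by rw [← h.sq]; group, h.Tinv a ha]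
      group
    obtain ⟨ρ, hρ⟩ : ∃ ρ : ℤ, j ^ ρ = s * j * s⁻¹ := mem_zpowers_iff.1
      (hcycT _ (hsT j hjT) (by rw [conj_pow, pow_orderOf_eq_one, mul_one, mul_inv_cancel]))
    have hρμ : (r : ℤ) ∣ ρ - μ := by
      refine h.dvd_of_zpow h.oy ?_
      rw [zpow_sub, mul_inv_eq_one, zpow_natCast, ← h.sy, ← hty, ← zpow_mul, mul_comm, zpow_mul, hρ,
        conj_zpow]
    have hsg : s * g * s⁻¹ = g := by rw [← hew, ← conj_zpow, hszz]
    -- the element `m₀`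
    obtain ⟨c, hc⟩ := mem_zpowers_iff.1 (hall g₀ hgR)
    set sg := s * g₀ * s⁻¹ with hsg₀
    have hsgR : sg ∈ R := h.norm g₀ hgR
    have hψs : ψ sg = ψ g₀ ^ μ := by
      show sg * z * sg⁻¹ * z⁻¹ = _
      calc sg * z * sg⁻¹ * z⁻¹ = sg * (s * z * s⁻¹) * sg⁻¹ * (s * z * s⁻¹)⁻¹ := by rw [hszz]
        _ = s * (g₀ * z * g₀⁻¹ * z⁻¹) * s⁻¹ := by rw [hsg₀]; group
        _ = (s * y * s⁻¹) ^ c := by rw [← hc, conj_zpow]
        _ = ψ g₀ ^ μ := by
          show _ = (g₀ * z * g₀⁻¹ * z⁻¹) ^ μ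
          rw [h.sy, ← hc, ← zpow_natCast, ← zpow_natCast, ← zpow_mul, ← zpow_mul, mul_comm]
    set m₀ := (g₀ ^ μ)⁻¹ * sg with hm₀
    have hm₀R : m₀ ∈ R := mul_mem (inv_mem (pow_mem hgR μ)) hsgR
    have hm₀z : m₀ * z = z * m₀ := (hψ1 _).1 (by
      have h1 := hψm (g₀ ^ μ) (pow_mem hgR μ) m₀ hm₀R
      rw [show g₀ ^ μ * m₀ = sg by rw [hm₀, mul_inv_cancel_left], hψs, hpow μ] at h1
      exact mul_eq_right.1 h1.symm)
    obtain ⟨ν, hν⟩ : ∃ ν : ℤ, j ^ ν = m₀ * j ^ ρ * m₀⁻¹ := mem_zpowers_iff.1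
      (hcycT _ (h.Tnorm m₀ hm₀R hm₀z _ (zpow_mem hjT ρ)) (by
        rw [conj_pow, ← zpow_natCast, ← zpow_mul, mul_comm, zpow_mul, zpow_natCast, pow_orderOf_eq_one,
          one_zpow, mul_one, mul_inv_cancel]))
    have hνρ : (r : ℤ) ∣ ν - ρ := by
      refine h.dvd_of_zpow h.oy ?_
      rw [zpow_sub, mul_inv_eq_one, ← hty, ← zpow_mul, mul_comm, zpow_mul, hν, conj_zpow, ← zpow_mul,
        mul_comm ρ, zpow_mul, hty]
      have cy : Commute m₀ (y ^ ρ) := (show Commute m₀ y from h.central m₀ hm₀R).zpow_right ρ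
      rw [cy.eq, mul_inv_cancel_right]
    -- the two images
    have e1 : g₀ ^ μ * j ^ ν * (g₀ ^ μ)⁻¹ = j ^ (ρ * α) * g := by
      have h1 : sg * j ^ ρ * sg⁻¹ = j ^ (ρ * α) * g := by
        rw [hsg₀, hρ, show s * g₀ * s⁻¹ * (s * j * s⁻¹) * (s * g₀ * s⁻¹)⁻¹ = s * (g₀ * j * g₀⁻¹) * s⁻¹ by group,
          ej, show s * (j' * g) * s⁻¹ = (s * j' * s⁻¹) * (s * g * s⁻¹) by group, hsg, ← hα, ← conj_zpow,
          ← hρ, ← zpow_mul]
      rw [← h1, hν, show sg = g₀ ^ μ * m₀ by rw [hm₀, mul_inv_cancel_left]]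
      group
    have hjgc : ∀ a b : ℤ, Commute (j ^ a) (g ^ b) := fun a b => (hjg j hjT).zpow_zpow a b
    have hrg : g₀ * g * g₀⁻¹ = j ^ (t * (c * ew)) * g := by
      rw [← hew, ← conj_zpow, show g₀ * z * g₀⁻¹ = y ^ c * z by rw [hc]; group,
        ((show Commute y z from h.Tz y h.yT).zpow_left c).mul_zpow, ← zpow_mul, zpow_mul j, hty]
    have e2 : ∀ n : ℕ, ∃ a b : ℤ, g₀ ^ n * j * (g₀ ^ n)⁻¹ = j ^ a * g ^ b ∧
        (r : ℤ) ∣ a - 1 ∧ (r : ℤ) ∣ b - n := by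
      intro n
      induction n with
      | zero => exact ⟨1, 0, by simp, by simp, by simp⟩
      | succ n ih =>
        obtain ⟨a, b, eab, ha, hb⟩ := ih
        refine ⟨α * a + t * (c * ew) * b, a + b, ?_, ?_, ?_⟩
        · rw [pow_succ', show g₀ * g₀ ^ n * j * (g₀ * g₀ ^ n)⁻¹ = g₀ * (g₀ ^ n * j * (g₀ ^ n)⁻¹) * g₀⁻¹ by group,
            eab, show g₀ * (j ^ a * g ^ b) * g₀⁻¹ = (g₀ * j ^ a * g₀⁻¹) * (g₀ * g ^ b * g₀⁻¹) by group,
            ← conj_zpow, ← conj_zpow, ej, hrg, ← hα, ((hjg j hjT).zpow_left α).mul_zpow,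
            ((hjg j hjT).zpow_left _).mul_zpow, ← zpow_mul, ← zpow_mul]
          calc j ^ (α * a) * g ^ a * (j ^ (t * (c * ew) * b) * g ^ b)
              = j ^ (α * a) * (g ^ a * j ^ (t * (c * ew) * b)) * g ^ b := by group
            _ = j ^ (α * a) * (j ^ (t * (c * ew) * b) * g ^ a) * g ^ b := by rw [(hjgc _ _).eq]
            _ = j ^ (α * a + t * (c * ew) * b) * g ^ (a + b) := by rw [zpow_add, zpow_add]; group
        · have h1 := (dvd_add ((dvd_add (hα1.mul_right a) ha)) (htr.mul_right (c * ew * b)))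
          rw [show α * a + t * (c * ew) * b - 1 = (α - 1) * a + (a - 1) + t * (c * ew * b) by ring]
          exact h1
        · push_cast
          have h1 := dvd_add ha hb
          rw [show a + b - ((n : ℤ) + 1) = a - 1 + (b - (n : ℤ)) by ring]
          exact h1
    obtain ⟨a, b, eab, ha, hb⟩ := e2 μ
    have h3 : j ^ (a * ν - ρ * α) * g ^ (b * ν - 1) = 1 := by
      have h1 : j ^ (a * ν) * g ^ (b * ν) = j ^ (ρ * α) * g := by
        rw [← e1, ← conj_zpow, eab, (hjgc _ _).mul_zpow, ← zpow_mul, ← zpow_mul]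
      rw [sub_eq_neg_add (a * ν), zpow_add, zpow_sub_one, mul_assoc, ← mul_assoc (j ^ (a * ν)), h1, zpow_neg]
      group
    have h4 := h.dvd_of_zpow hgo (hkill _ _ (zpow_mem hjT _) h3)
    have h5 : (r : ℤ) ∣ (μ : ℤ) * μ - 1 := by
      have h6 := dvd_sub h4 (dvd_add (hb.mul_right ν) ((dvd_add hνρ hρμ).mul_left (μ : ℤ)))
      rw [show (μ : ℤ) * μ - 1 = b * ν - 1 - ((b - (μ : ℤ)) * ν + (μ : ℤ) * ((ν - ρ) + (ρ - (μ : ℤ)))) by ring]
      exact h6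
    have h7 : (r : ℤ) ∣ 2 := by
      have h8 : (r : ℤ) ∣ (μ : ℤ) * μ + 1 := by exact_mod_cast h.hμ
      have h9 := dvd_sub h8 h5
      rw [show (2 : ℤ) = (μ : ℤ) * μ + 1 - ((μ : ℤ) * μ - 1) by ring]
      exact h9
    exact h.ne_two ((Nat.prime_dvd_prime_iff_eq h.prime Nat.prime_two).1 (by exact_mod_cast h7))
  have hgT' : ∀ t ∈ T, g₀ * t * g₀⁻¹ ∈ T := fun t ht => by
    obtain ⟨i, rfl⟩ := hT0' t ht
    show g₀ * t₀ ^ i * g₀⁻¹ ∈ T
    rw [← conj_zpow]; exact zpow_mem hgT i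
  -- `g₀` centralizes `T`
  have hrc : ∀ t ∈ T, t * g₀ = g₀ * t := by
    intro t ht
    have h1 := h.Tinv _ (hgT' t ht)
    rw [show d * (g₀ * t * g₀⁻¹) * d⁻¹ = d * g₀ * d⁻¹ * (d * t * d⁻¹) * (d * g₀ * d⁻¹)⁻¹ by group, hg_inv,
      h.Tinv t ht, inv_inv] at h1
    have h3 : g₀⁻¹ * t * g₀ = g₀ * t * g₀⁻¹ := by
      have := congrArg Inv.inv h1
      rw [inv_inv, show (g₀⁻¹ * t⁻¹ * g₀)⁻¹ = g₀⁻¹ * t * g₀ by group] at this
      exact this
    have h2 : g₀ * g₀ ∈ centralizer ({t} : Set G) := by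
      refine mem_centralizer_singleton_iff.2 ?_
      calc g₀ * g₀ * t = g₀ * (g₀ * t * g₀⁻¹) * g₀ := by group
        _ = g₀ * (g₀⁻¹ * t * g₀) * g₀ := by rw [h3]
        _ = t * (g₀ * g₀) := by group
    exact (mem_centralizer_singleton_iff.1 (mem_of_sq (odd_orderOf_of_mem h.odd_R hgR) h2)).symm
  refine ⟨T ⊔ zpowers g₀, sup_le h.TR (zpowers_le.2 hgR), fun b hb => inverted_sup h.Tinv
    (fun b hb => zpowers_inverted h hg_inv hb) (fun b hb a ha => ?_) hb, hcomm _ ?_⟩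
  · obtain ⟨n, rfl⟩ := ha
    exact ((show Commute b g₀ from hrc b hb).zpow_right n).eq
  intro x hx
  obtain ⟨n, x0, hx0, hx0z, rfl⟩ := hgen x hx
  have h1 : d * (g₀ ^ n)⁻¹ * d = g₀ ^ n := by
    have h2 := zpowers_inverted h hg_inv (inv_mem (pow_mem (mem_zpowers g₀) n))
    rwa [h.di, inv_inv] at h2
  rw [show g₀ ^ n * x0 * d * (g₀ ^ n * x0)⁻¹ * d = g₀ ^ n * (x0 * d * x0⁻¹ * d) * (d⁻¹ * (g₀ ^ n)⁻¹ * d) by group,
    h.di, h1]
  exact mul_mem (mul_mem (mem_sup_right (pow_mem (mem_zpowers g₀) n)) (mem_sup_left (hbase x0 hx0 hx0z)))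
    (mem_sup_right (pow_mem (mem_zpowers g₀) n))

/-- The element `z` is not in the commutator with `d`. -/
theorem not_mem_commutator : z ∉ ⁅R, zpowers d⁆ := by
  classical
  haveI : Fact r.Prime := ⟨h.prime⟩
  intro hzc
  suffices hB : ∃ B ≤ R, (∀ b ∈ B, d * b * d⁻¹ = b⁻¹) ∧ ⁅R, zpowers d⁆ ≤ B by
    obtain ⟨B, -, hBi, hle⟩ := hB
    exact h.z_ne (h.eq_one h.zR h.dz.eq (hBi z (hle hzc)))
  have hy0 : ∀ b ∈ zpowers y, d * b * d⁻¹ = b⁻¹ := fun b hb => zpowers_inverted h h.dy hb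
  obtain ⟨B, ⟨hyB, hBR, hBi, hBn⟩, hmax⟩ := (Set.toFinite {B : Subgroup G | y ∈ B ∧ B ≤ R ∧
    (∀ b ∈ B, d * b * d⁻¹ = b⁻¹) ∧ ∀ r ∈ R, ∀ b ∈ B, r * b * r⁻¹ ∈ B}).exists_maximal
      ⟨zpowers y, mem_zpowers y, zpowers_le.2 h.yR, hy0, fun r hr b hb => by
        obtain ⟨n, rfl⟩ := hb
        show r * y ^ n * r⁻¹ ∈ _
        rw [← conj_zpow, h.central r hr, mul_inv_cancel_right]
        exact zpow_mem (mem_zpowers y) n⟩
  have hBc : ∀ a ∈ B, ∀ b ∈ B, a * b = b * a := fun a ha b hb => comm_of_inverted hBi ha hb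
  set C := R ⊓ centralizer (B : Set G) with hC
  have hBC : B ≤ C := le_inf hBR fun b hb => mem_centralizer_iff.2 fun a ha => hBc a ha b hb
  -- commutators with `d` centralize `B`
  have hdC : ⁅R, zpowers d⁆ ≤ C := by
    have key : ∀ x ∈ R, x * d * x⁻¹ * d ∈ C := by
      intro x hx
      refine ⟨by rw [show x * d * x⁻¹ * d = x * (d * x⁻¹ * d⁻¹) by rw [h.di]; group]
                 exact mul_mem hx (h.norm_d (inv_mem hx)), mem_centralizer_iff.2 fun b hb => ?_⟩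
      have hi1 := hBi _ (hBn x⁻¹ (inv_mem hx) b hb)
      have hi2 := hBi b hb
      rw [h.di] at hi1 hi2
      have h4 : d * x⁻¹ * d * b⁻¹ * (d * x * d) = x⁻¹ * b⁻¹ * x := by
        calc d * x⁻¹ * d * b⁻¹ * (d * x * d) = d * x⁻¹ * (d * d) * b * (d * d) * x * d := by
              rw [← hi2]; group
          _ = d * (x⁻¹ * b * x⁻¹⁻¹) * d := by rw [h.dd]; group
          _ = x⁻¹ * b⁻¹ * x := by rw [hi1]; group
      set u := d * x⁻¹ * d with hu
      have hu' : d * x * d = u⁻¹ := by rw [hu, mul_inv_rev, mul_inv_rev, inv_inv, h.di]; group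
      rw [hu'] at h4
      have h5 : x * u * b⁻¹ = b⁻¹ * (x * u) := by
        calc x * u * b⁻¹ = x * (u * b⁻¹ * u⁻¹) * u := by group
          _ = x * (x⁻¹ * b⁻¹ * x) * u := by rw [h4]
          _ = b⁻¹ * (x * u) := by group
      rw [show x * d * x⁻¹ * d = x * u by rw [hu]; group]
      have h6 := (show Commute (x * u) b⁻¹ from h5).inv_right
      rw [inv_inv] at h6
      exact h6.symm.eq
    refine commutator_le.2 fun x hx e he => ?_
    obtain ⟨i, rfl⟩ := he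
    show ⁅x, d ^ i⁆ ∈ C
    rcases Int.even_or_odd i with ⟨m, rfl⟩ | ⟨m, rfl⟩
    · rw [← two_mul, zpow_mul, zpow_two, h.dd, one_zpow, commutatorElement_one_right]; exact one_mem C
    · rw [zpow_add, zpow_mul, zpow_two, h.dd, one_zpow, zpow_one, one_mul, commutatorElement_def, h.di]
      exact key x hx
  by_cases hCB : C ≤ B
  · exact ⟨B, hBR, hBi, hdC.trans hCB⟩
  -- an element of `C`, central of order five modulo `B`
  have hCn : ∀ r ∈ R, ∀ x ∈ C, r * x * r⁻¹ ∈ C := fun r hr x hx =>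
    ⟨mul_mem (mul_mem hr hx.1) (R.inv_mem hr), mem_centralizer_iff.2 fun b hb => by
      have hb' := hBn r⁻¹ (inv_mem hr) b hb
      rw [inv_inv] at hb'
      calc b * (r * x * r⁻¹) = r * ((r⁻¹ * b * r) * x) * r⁻¹ := by group
        _ = r * (x * (r⁻¹ * b * r)) * r⁻¹ := by rw [mem_centralizer_iff.1 hx.2 _ hb']
        _ = r * x * r⁻¹ * b := by group⟩
  obtain ⟨x, hxC, hxB, hxr, hxz⟩ : ∃ x ∈ C, x ∉ B ∧ x ^ r ∈ B ∧ ∀ r ∈ R, x⁻¹ * (r * x * r⁻¹) ∈ B := by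
    let B' : Subgroup ↥R := B.subgroupOf R
    haveI : B'.Normal := ⟨fun b hb r => hBn r.1 r.2 b.1 hb⟩
    haveI : (C.subgroupOf R).Normal := ⟨fun b hb r => hCn r.1 r.2 b.1 hb⟩
    haveI : ((C.subgroupOf R).map (QuotientGroup.mk' B')).Normal :=
      Subgroup.Normal.map inferInstance _ (QuotientGroup.mk'_surjective _)
    haveI : Group.IsNilpotent (↥R ⧸ B') := (h.pgroup.to_quotient B').isNilpotent
    have hne : (C.subgroupOf R).map (QuotientGroup.mk' B') ≠ ⊥ := fun e => hCB fun z hz => by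
      have h1 : QuotientGroup.mk' B' ⟨z, hz.1⟩ = 1 := mem_bot.1 (e ▸ mem_map_of_mem _ hz)
      exact (QuotientGroup.eq_one_iff (N := B') _).1 h1
    have hz := Cfsg.Agent.Solvable.Basics.inf_center_ne_bot hne
    obtain ⟨q, hq, hq1⟩ : ∃ q ∈ (C.subgroupOf R).map (QuotientGroup.mk' B') ⊓ center _, q ≠ 1 :=
      by
        by_contra hcon
        push Not at hcon
        exact hz ((eq_bot_iff_forall _).2 hcon)
    obtain ⟨l, hl⟩ := IsPGroup.iff_orderOf.1 (h.pgroup.to_quotient B') q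
    rcases l with _ | l
    · exact absurd (orderOf_eq_one_iff.1 (by rw [hl, pow_zero])) hq1
    have hq' := pow_mem hq (r ^ l)
    obtain ⟨⟨x₁, hxR⟩, hxC₁, hxe⟩ := hq'.1
    refine ⟨x₁, hxC₁, fun hxB₁ => ?_, ?_, fun r hr => ?_⟩
    · have h1 : QuotientGroup.mk' B' ⟨x₁, hxR⟩ = 1 := (QuotientGroup.eq_one_iff (N := B') _).2 hxB₁
      rw [hxe] at h1
      have := Nat.le_of_dvd (pow_pos h.prime.pos l) (hl ▸ orderOf_dvd_of_pow_eq_one h1)
      have := Nat.pow_lt_pow_right h.prime.one_lt (show l < l + 1 by omega)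
      omega
    · have h1 : QuotientGroup.mk' B' (⟨x₁, hxR⟩ ^ r) = 1 := by
        rw [map_pow, hxe, ← pow_mul, ← pow_succ, ← hl, pow_orderOf_eq_one]
      exact (QuotientGroup.eq_one_iff (N := B') _).1 h1
    · have h1 := mem_center_iff.1 hq'.2 (QuotientGroup.mk' B' ⟨r, hr⟩)
      have h2 : QuotientGroup.mk' B' (⟨x₁, hxR⟩⁻¹ * (⟨r, hr⟩ * ⟨x₁, hxR⟩ * ⟨r, hr⟩⁻¹)) = 1 := by
        rw [map_mul, map_mul, map_mul, map_inv, map_inv, hxe, h1, mul_inv_cancel_right, inv_mul_cancel]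
      exact (QuotientGroup.eq_one_iff (N := B') _).1 h2
  set x' := d * x * d⁻¹ with hx'
  have hdB : ∀ b ∈ B, d * b * d⁻¹ ∈ B := fun b hb => hBi b hb ▸ inv_mem hb
  have hcd : ∀ z, d * (d * z * d⁻¹) * d⁻¹ = z := fun z => by
    rw [h.di, show d * (d * z * d) * d = d * d * z * (d * d) by group, h.dd, one_mul, mul_one]
  have hx'C : x' ∈ C := ⟨h.norm_d hxC.1, mem_centralizer_iff.2 fun b hb => by
    have h1 := mem_centralizer_iff.1 hxC.2 _ (hdB b hb)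
    calc b * x' = d * (d * b * d⁻¹ * x) * d⁻¹ := by
            conv_lhs => rw [← hcd b, hx']
            group
      _ = d * (x * (d * b * d⁻¹)) * d⁻¹ := by rw [h1]
      _ = x' * b := by
            conv_rhs => rw [← hcd b, hx']
            group⟩
  by_cases hu : x * x'⁻¹ ∈ B
  · -- a fixed element
    set b := x * x'⁻¹ with hb
    have hbo : Odd (orderOf b) := odd_orderOf_of_mem h.odd_R (hBR hu)
    obtain ⟨m, hm⟩ := hbo
    have hdb : d * b * d⁻¹ = b⁻¹ := hBi b hu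
    have hcb : Commute x b := (mem_centralizer_iff.1 hxC.2 b hu).symm
    set f := x * b ^ m with hf
    have hfC : f ∈ C := mul_mem hxC (pow_mem (hBC hu) m)
    have hfd : d * f = f * d := by
      refine mul_inv_eq_iff_eq_mul.1 ?_
      have h2 : b ^ (m + 1) * b ^ m = 1 := by
        rw [← pow_add, show m + 1 + m = orderOf b by omega, pow_orderOf_eq_one]
      rw [hf, show d * (x * b ^ m) * d⁻¹ = x' * (d * b ^ m * d⁻¹) by rw [hx']; group, ← conj_pow, hdb,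
        show x' = b⁻¹ * x by rw [hb]; group, (hcb.inv_right).symm.eq, inv_pow, mul_assoc, ← mul_inv_rev,
        ← pow_succ, inv_eq_of_mul_eq_one_right h2]
    have hfB : f ∉ B := fun e => hxB ((mul_mem_cancel_right (pow_mem hu m)).1 e)
    have hfr : f ^ r = 1 := by
      have h1 : f ^ r ∈ B := by rw [hf, (hcb.pow_right m).mul_pow]; exact mul_mem hxr (pow_mem (pow_mem hu m) r)
      exact h.eq_one (hBR h1) ((show Commute d f from hfd).pow_right r).eq (hBi _ h1)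
    have hzf : z ∈ zpowers f := by
      have hz : zpowers f = zpowers z :=
        eq_of_le_of_card_ge (zpowers_le.2 (h.mem_z (h.line f hfC.1 hfd) hfr)) (by
          rw [Nat.card_zpowers, Nat.card_zpowers, h.oz,
            orderOf_eq_prime hfr fun e => hfB (e ▸ one_mem B)])
      exact hz ▸ mem_zpowers z
    refine h.central_case fun g hg => ?_
    -- `z` is central modulo `B`
    obtain ⟨k, hk⟩ := mem_zpowers_iff.1 hzf
    let B' : Subgroup ↥R := B.subgroupOf R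
    haveI : B'.Normal := ⟨fun b hb a => hBn a.1 a.2 b.1 hb⟩
    have hfz : g * f * g⁻¹ * f⁻¹ ∈ B := by
      have h1 := hBn g hg _ (pow_mem hu m)
      have h2 := hxz g hg
      have e : g * f * g⁻¹ * f⁻¹ = x * ((x⁻¹ * (g * x * g⁻¹)) * (g * b ^ m * g⁻¹) * (b ^ m)⁻¹) * x⁻¹ := by
        rw [hf]; group
      rw [e]
      exact hBn x hxC.1 _ (mul_mem (mul_mem h2 h1) (inv_mem (pow_mem hu m)))
    have hzB : g * z * g⁻¹ * z⁻¹ ∈ B := by
      let fR : ↥R := ⟨f, hfC.1⟩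
      let gR : ↥R := ⟨g, hg⟩
      have h1 : QuotientGroup.mk' B' (gR * fR * gR⁻¹ * fR⁻¹) = 1 := (QuotientGroup.eq_one_iff (N := B') _).2 hfz
      rw [map_mul, map_mul, map_mul, map_inv, map_inv, mul_inv_eq_one, mul_inv_eq_iff_eq_mul] at h1
      have h2 : QuotientGroup.mk' B' (gR * fR ^ k * gR⁻¹ * (fR ^ k)⁻¹) = 1 := by
        rw [map_mul, map_mul, map_mul, map_inv, map_inv, map_zpow, mul_inv_eq_one, mul_inv_eq_iff_eq_mul]
        exact (Commute.zpow_right h1 k).eq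
      have h3 := (QuotientGroup.eq_one_iff (N := B') _).1 h2
      have h4 : g * f ^ k * g⁻¹ * (f ^ k)⁻¹ ∈ B := h3
      rwa [hk] at h4
    set b' := g * z * g⁻¹ * z⁻¹ with hb'
    have hzC : z ∈ C := hk ▸ zpow_mem hfC k
    have hbz : Commute b' z := mem_centralizer_iff.1 hzC.2 b' hzB
    have hbr : b' ^ r = 1 := by
      have h5 : (b' * z) ^ r = 1 := by
        rw [hb', inv_mul_cancel_right, conj_pow, h.zr, mul_one, mul_inv_cancel]
      rwa [hbz.mul_pow, h.zr, mul_one] at h5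
    obtain ⟨u, huT, i, e⟩ := h.split b' (hBR hzB) hbz.eq
    have hi := hBi b' hzB
    rw [e] at hi
    have hw1 := h.mem_T huT hi
    rw [hw1, mul_one] at e
    exact h.mem_y (e ▸ huT) hbr
  · -- a bigger inverted subgroup
    exfalso
    set u := x * x'⁻¹ with hu_def
    have huC : u ∈ C := mul_mem hxC (inv_mem hx'C)
    have hui : d * u * d⁻¹ = u⁻¹ := by
      rw [hu_def, show d * (x * x'⁻¹) * d⁻¹ = d * x * d⁻¹ * (d * x' * d⁻¹)⁻¹ by group, hx', hcd,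
        mul_inv_rev, inv_inv]
    have hJ : ∀ b ∈ B ⊔ zpowers u, d * b * d⁻¹ = b⁻¹ := fun b hb =>
      inverted_sup hBi (fun z hz => zpowers_inverted h hui hz) (fun b hb z hz =>
        mem_centralizer_iff.1 (show z ∈ centralizer (B : Set G) from (zpowers_le.2 huC.2) hz) b hb) hb
    have hxz' : ∀ r ∈ R, u⁻¹ * (r * u * r⁻¹) ∈ B := by
      intro r hr
      have h2 := hxz r hr
      have h3 : x'⁻¹ * (r * x' * r⁻¹) ∈ B := by
        have h4 := hdB _ (hxz _ (h.norm_d hr))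
        have e : d * (x⁻¹ * (d * r * d⁻¹ * x * (d * r * d⁻¹)⁻¹)) * d⁻¹ =
            (d * x * d⁻¹)⁻¹ * (d * (d * r * d⁻¹) * d⁻¹ * (d * x * d⁻¹) * (d * (d * r * d⁻¹) * d⁻¹)⁻¹) := by
          group
        rwa [e, hcd, ← hx'] at h4
      set c1 := x⁻¹ * (r * x * r⁻¹) with hc1
      set c2 := x'⁻¹ * (r * x' * r⁻¹) with hc2
      have e : u⁻¹ * (r * u * r⁻¹) = x' * (c1 * c2⁻¹) * x'⁻¹ := by rw [hu_def, hc1, hc2]; group
      rw [e]
      exact hBn x' hx'C.1 _ (mul_mem h2 (inv_mem h3))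
    have hle := hmax (y := B ⊔ zpowers u) ⟨mem_sup_left hyB, sup_le hBR (zpowers_le.2 huC.1), hJ,
      fun r hr => ?_⟩ le_sup_left
    · exact hu (hle (mem_sup_right (mem_zpowers u)))
    have hmap : B ⊔ zpowers u ≤ (B ⊔ zpowers u).comap (MulAut.conj r).toMonoidHom := by
      refine sup_le (fun b hb => mem_sup_left (hBn r hr b hb)) (zpowers_le.2 ?_)
      show r * u * r⁻¹ ∈ B ⊔ zpowers u
      rw [← mul_inv_cancel_left u (r * u * r⁻¹)]
      exact mul_mem (mem_sup_right (mem_zpowers u)) (mem_sup_left (hxz' r hr))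
    exact fun b hb => hmap hb

end RData

end Cfsg.Agent.OddTranspX.Kill
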