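import Cfsg.Agent.Lib.OddTranspX.Kill.Linear
import Cfsg.Agent.Lib.OddTranspX.Kill.Local
import Cfsg.Agent.Lib.Coprime.Sylow
import Cfsg.Agent.Solvable.Fitting

/-!
# The commutator with `d` modulo `O_{r'}`

`Q` is an odd group normalized by `s`, `s ^ 4 = 1`, and what `d = s * s` fixes in `Q` is abelian and fixed
by `s`.  Then `⁅Q, d⁆` is contained in `⁅R, d⁆ O_{r'}(Q)` for an invariant Sylow `r`-subgroup `R`.
-/

set_option autoImplicit false
set_option linter.unusedSectionVars false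
set_option linter.style.haveILetI false

open Subgroup
open scoped commutatorElement

namespace Cfsg.Agent.OddTranspX.Kill

open Cfsg.Agent.Walter.Core (mem_normalizer_of_conj_le)

universe u

variable {G : Type u} [Group G] [Finite G]

/-- The action of the normalizer of `P` on its Frattini quotient. -/
noncomputable def frattiniAct (P : Subgroup G) :
    ↥(normalizer (P : Set G)) →* MulAut (↥P ⧸ frattini ↥P) :=
  MonoidHom.comp
    { toFun := fun α => QuotientGroup.congr (frattini ↥P) (frattini ↥P) α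
        ((characteristic_iff_map_eq.1 (inferInstance : (frattini ↥P).Characteristic)) α)
      map_one' := MulEquiv.ext fun x => by
        induction x using QuotientGroup.induction_on with
        | H x => rfl
      map_mul' := fun α β => MulEquiv.ext fun x => by
        induction x using QuotientGroup.induction_on with
        | H x => rfl }
    P.normalizerMonoidHom

theorem frattiniAct_mk (P : Subgroup G) (g : ↥(normalizer (P : Set G))) (x : ↥P) :
    frattiniAct P g (QuotientGroup.mk x) = QuotientGroup.mk (P.normalizerMonoidHom g x) := rfl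

/-- The hypotheses on `Q`. -/
structure QData (Q : Subgroup G) (s d : G) : Prop where
  odd : Odd (Nat.card Q)
  sq : s * s = d
  dd : d * d = 1
  norm : ∀ x ∈ Q, s * x * s⁻¹ ∈ Q
  fix : ∀ x ∈ Q, d * x = x * d → s * x = x * s
  ab : ∀ x ∈ Q, d * x = x * d → ∀ y ∈ Q, d * y = y * d → x * y = y * x

namespace QData

variable {Q : Subgroup G} {s d : G} (h : QData Q s d)

include h

theorem di : d⁻¹ = d := inv_eq_of_mul_eq_one_right h.dd

theorem d_norm : zpowers d ≤ normalizer (Q : Set G) := zpowers_le.2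
  (mem_normalizer_of_conj_le fun x hx => by
    rw [← h.sq, show s * s * x * (s * s)⁻¹ = s * (s * x * s⁻¹) * s⁻¹ by group]
    exact h.norm _ (h.norm x hx))

theorem card_d : Nat.card ↥(zpowers d) ∣ 2 := by
  rw [Nat.card_zpowers]; exact orderOf_dvd_of_pow_eq_one (by rw [pow_two, h.dd])

theorem coprime {K : Subgroup G} (hK : K ≤ Q) : (Nat.card ↥(zpowers d)).Coprime (Nat.card K) :=
  (Nat.coprime_two_left.2 (h.odd.of_dvd_nat (card_dvd_of_le hK))).coprime_dvd_left h.card_d

theorem solvable : Group.IsSolvable ↥(zpowers d) :=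
  Group.isSolvable_of_comm fun a b => mul_comm' a b
where
  mul_comm' (a b : ↥(zpowers d)) : a * b = b * a := by
    obtain ⟨a, i, rfl⟩ := a; obtain ⟨b, j, rfl⟩ := b
    exact Subtype.ext ((Commute.refl d).zpow_zpow i j).eq

end QData

theorem mem_zpowers_d {d x : G} (hd : d * d = 1) (hx : x ∈ zpowers d) : x = 1 ∨ x = d := by
  obtain ⟨i, rfl⟩ := hx
  show d ^ i = 1 ∨ d ^ i = d
  rcases Int.even_or_odd i with ⟨m, rfl⟩ | ⟨m, rfl⟩
  · left; rw [← two_mul, zpow_mul, zpow_two, hd, one_zpow]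
  · right; rw [zpow_add, zpow_mul, zpow_two, hd, one_zpow, zpow_one, one_mul]

variable {r : ℕ} [hr : Fact r.Prime]

/-- Without a normal `r'`-subgroup the commutator with `d` lies in `O_r`. -/
theorem QData.commutator_le_core {Q : Subgroup G} {s d : G} (h : QData Q s d) (hr2 : r ≠ 2)
    (hcore : Cfsg.pPrimeCore r ↥Q = ⊥) : ⁅Q, zpowers d⁆ ≤ (Cfsg.pCore r ↥Q).map Q.subtype := by
  classical
  haveI : Group.IsSolvable ↥Q := S0205.result h.odd
  set Pc := Cfsg.pCore r ↥Q with hPc
  set P := Pc.map Q.subtype with hP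
  have hPQ : P ≤ Q := map_subtype_le _
  have hPcp : IsPGroup r Pc := Cfsg.Agent.Cores.pCore_isPGroup r
  have hPp : IsPGroup r P := hPcp.map _
  haveI hPn : Pc.Normal := Cfsg.Agent.Cores.pCore_normal r
  have hQP : Q ≤ normalizer (P : Set G) := fun k hk => mem_normalizer_of_conj_le fun x hx => by
    obtain ⟨x, hx', rfl⟩ := hx
    exact ⟨⟨k, hk⟩ * x * ⟨k, hk⟩⁻¹, hPn.conj_mem x hx' _, rfl⟩
  -- `s` normalizes `P`
  have hsP : s ∈ normalizer (P : Set G) := by
    have hsQ : s ∈ normalizer (Q : Set G) := mem_normalizer_of_conj_le h.norm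
    haveI : Pc.Characteristic := Cfsg.Agent.Cores.pCore_characteristic r
    refine mem_normalizer_of_conj_le fun x hx => ?_
    obtain ⟨x, hx', rfl⟩ := hx
    let σ : ↥Q ≃* ↥Q := normalizerMonoidHom Q ⟨s, hsQ⟩
    have h1 : σ x ∈ Pc := by
      have := (characteristic_iff_map_eq.1 (inferInstance : Pc.Characteristic)) σ
      exact this ▸ mem_map_of_mem _ hx'
    exact ⟨σ x, h1, rfl⟩
  have hdP : d ∈ normalizer (P : Set G) := h.sq ▸ mul_mem hsP hsP
  -- the module
  haveI := hPp.isNilpotent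
  haveI hfc : (frattini ↥P).Characteristic := inferInstance
  obtain ⟨ρ, hρ⟩ : ∃ ρ : ↥(normalizer (P : Set G)) →* MulAut (↥P ⧸ frattini ↥P),
      ∀ (g : ↥(normalizer (P : Set G))) (x : ↥P),
        ρ g (QuotientGroup.mk x) = QuotientGroup.mk (P.normalizerMonoidHom g x) :=
    ⟨frattiniAct P, frattiniAct_mk P⟩
  haveI hcomm : IsMulCommutative (↥P ⧸ frattini ↥P) := by
    refine ⟨⟨fun a b => ?_⟩⟩
    induction a using QuotientGroup.induction_on with
    | H a =>
      induction b using QuotientGroup.induction_on with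
      | H b =>
        rw [← QuotientGroup.mk_mul, ← QuotientGroup.mk_mul, QuotientGroup.eq]
        refine Coprime.commutator_le_frattini ↥P ?_
        have h := commutator_mem_commutator (mem_top b⁻¹) (mem_top a⁻¹)
        rw [commutatorElement_def] at h
        rw [show (a * b)⁻¹ * (b * a) = b⁻¹ * a⁻¹ * b⁻¹⁻¹ * a⁻¹⁻¹ by group]
        exact h
  letI : CommGroup (↥P ⧸ frattini ↥P) :=
    { (inferInstance : Group (↥P ⧸ frattini ↥P)) with mul_comm := hcomm.is_comm.comm }
  have hV : ∀ x : ↥P ⧸ frattini ↥P, x ^ r = 1 := fun x => by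
    induction x using QuotientGroup.induction_on with
    | H x =>
      rw [← QuotientGroup.mk_pow]
      exact (QuotientGroup.eq_one_iff _).2 (Cfsg.Agent.Solvable.Basics.pow_mem_frattini hPp x)
  let s' : ↥(normalizer (P : Set G)) := ⟨s, hsP⟩
  let d' : ↥(normalizer (P : Set G)) := ⟨d, hdP⟩
  have hs' : ρ s' * ρ s' = ρ d' := by rw [← map_mul]; exact congrArg ρ (Subtype.ext h.sq)
  have hd' : ρ d' * ρ d' = 1 := by
    rw [← map_mul, show d' * d' = 1 from Subtype.ext h.dd, map_one]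
  -- fixed vectors lift
  have hlift : ∀ v, ρ d' v = v → ∃ x : ↥P, QuotientGroup.mk x = v ∧ d * (x : G) = x * d := by
    intro v hv
    induction v using QuotientGroup.induction_on with
    | H x =>
      set Φ := (frattini ↥P).map P.subtype
      have hΦP : Φ ≤ P := map_subtype_le _
      have hdΦ : zpowers d ≤ normalizer (Φ : Set G) := zpowers_le.2 (mem_normalizer_of_conj_le fun y hy => by
        obtain ⟨y, hy', rfl⟩ := hy
        exact ⟨P.normalizerMonoidHom d' y, (characteristic_iff_map_eq.1 hfc (P.normalizerMonoidHom d')) ▸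
          mem_map_of_mem _ hy', rfl⟩)
      obtain ⟨n, hn, hxn⟩ := Coprime.exists_fixed_in_coset (k := (x : G)) hdΦ (h.coprime (hΦP.trans hPQ))
        (Or.inl h.solvable) (fun a ha => by
          rcases mem_zpowers_d h.dd ha with rfl | rfl
          · simp [Φ, one_mem]
          · rw [hρ] at hv
            refine ⟨x⁻¹ * P.normalizerMonoidHom d' x, QuotientGroup.eq.1 hv.symm, ?_⟩
            simp [d', mul_assoc])
      obtain ⟨n, hn', rfl⟩ := hn
      refine ⟨x * n, ?_, mem_centralizer_iff.1 hxn d (mem_zpowers d)⟩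
      rw [QuotientGroup.mk_mul, (QuotientGroup.eq_one_iff n).2 hn', mul_one]
  have hsd : ∀ v, ρ d' v = v → ρ s' v = v := fun v hv => by
    obtain ⟨x, rfl, hx⟩ := hlift v hv
    rw [hρ]
    refine congrArg _ (Subtype.ext ?_)
    show s * (x : G) * s⁻¹ = x
    rw [h.fix x (hPQ x.2) hx, mul_inv_cancel_right]
  -- the image of `Q`
  set K := (Q.subgroupOf (normalizer (P : Set G))).map ρ with hK
  have hKodd : Odd (Nat.card K) := by
    refine h.odd.of_dvd_nat ?_
    rw [← Nat.card_congr (Subgroup.subgroupOfEquivOfLe hQP).toEquiv, hK]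
    exact card_map_dvd _ _
  -- the kernel
  have hker : ∀ k : ↥(normalizer (P : Set G)), (k : G) ∈ Q → ρ k = 1 → (k : G) ∈ P := by
    -- it is an `r`-group, so it lies in the core
    set N := (ρ.ker ⊓ Q.subgroupOf (normalizer (P : Set G))).map (normalizer (P : Set G)).subtype with hN
    have hNQ : N ≤ Q := by rintro _ ⟨k, hk, rfl⟩; exact hk.2
    have hN' : ∀ x ∈ N, ∀ y ∈ P, x * y * x⁻¹ * y⁻¹ ∈ (frattini ↥P).map P.subtype := by
      rintro _ ⟨k, hk, rfl⟩ y hy
      have h1 : ρ k (QuotientGroup.mk ⟨y, hy⟩) = QuotientGroup.mk ⟨y, hy⟩ := by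
        rw [show ρ k = 1 from hk.1]; rfl
      rw [hρ, QuotientGroup.eq] at h1
      have h2 := (inferInstance : (frattini ↥P).Normal).conj_mem _ (inv_mem h1) ⟨y, hy⟩
      refine ⟨_, h2, ?_⟩
      simp [mul_assoc]
    have hNp : IsPGroup r N := by
      rintro ⟨x, hx⟩
      obtain ⟨k, c, hc, hxo⟩ := Nat.exists_eq_pow_mul_and_not_dvd (orderOf_pos x).ne' r hr.out.ne_one
      refine ⟨k, Subtype.ext ?_⟩
      show x ^ r ^ k = 1
      set a := x ^ r ^ k
      have hao : orderOf a = c := by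
        rw [orderOf_pow_of_dvd (pow_ne_zero _ hr.out.ne_zero) ⟨c, hxo⟩, hxo,
          Nat.mul_div_cancel_left _ (pow_pos hr.out.pos k)]
      have haN : a ∈ N := pow_mem hx _
      have haQ : a ∈ Q := hNQ haN
      have haP : zpowers a ≤ normalizer (P : Set G) := zpowers_le.2 (hQP haQ)
      have hcent : zpowers a ≤ centralizer (P : Set G) := by
        refine Coprime.le_centralizer_of_frattini haP ?_ fun b hb y hy => hN' b (zpowers_le.2 haN hb) y hy
        rw [Nat.card_zpowers, hao]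
        obtain ⟨j, hj⟩ := IsPGroup.iff_card.1 (hPp.to_subgroup (frattini ↥P))
        rw [hj]
        exact ((Nat.Prime.coprime_iff_not_dvd hr.out).2 hc).symm.pow_right j
      have h2 : (⟨a, haQ⟩ : ↥Q) ∈ Pc := Cfsg.Agent.Solvable.Fitting.centralizer_pCore_le r hcore
        (mem_centralizer_iff.2 fun y hy => Subtype.ext
          (mem_centralizer_iff.1 (hcent (mem_zpowers a)) y ⟨y, hy, rfl⟩))
      obtain ⟨j, hj⟩ := IsPGroup.iff_orderOf.1 hPcp ⟨_, h2⟩
      rw [Subgroup.orderOf_mk, Subgroup.orderOf_mk, hao] at hj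
      rcases j with _ | j
      · rw [← orderOf_eq_one_iff, hao, hj, pow_zero]
      · exact absurd (hj ▸ dvd_pow_self r j.succ_ne_zero) hc
    have hNn : (N.subgroupOf Q).Normal := ⟨fun x hx g => by
      obtain ⟨k, hk, hkx⟩ := hx
      refine ⟨⟨g, hQP g.2⟩ * k * ⟨g, hQP g.2⟩⁻¹, ⟨(inferInstance : ρ.ker.Normal).conj_mem k hk.1 _, ?_⟩, ?_⟩
      · exact mul_mem (mul_mem g.2 hk.2) (Subgroup.inv_mem _ g.2)
      · show (g : G) * k * (g : G)⁻¹ = (g : G) * x * (g : G)⁻¹
        rw [show (k : G) = x from hkx]⟩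
    intro k hk hρk
    have hle : N.subgroupOf Q ≤ Pc := Cfsg.Agent.Cores.le_pCore
      ((hNp.comap_of_injective Q.subtype Subtype.coe_injective))
    exact ⟨⟨k, hk⟩, hle ⟨k, ⟨hρk, hk⟩, rfl⟩, rfl⟩
  have hmain : ∀ k ∈ K, ρ d' * k = k * ρ d' := by
    refine linear_kill hV hr2 hd' hs' hsd hKodd ?_ ?_ ?_
    · rintro _ ⟨k, hk, rfl⟩
      exact ⟨s' * k * s'⁻¹, h.norm _ hk, by simp⟩
    · -- no normal `r`-subgroup
      intro N hNK hKN hNp
      refine (eq_bot_iff_forall N).2 fun x hx => ?_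
      set Nh := (N.comap ρ ⊓ Q.subgroupOf (normalizer (P : Set G))).map (normalizer (P : Set G)).subtype
      have hNhQ : Nh ≤ Q := by rintro _ ⟨k, hk, rfl⟩; exact hk.2
      have hNhp : IsPGroup r Nh := by
        rintro ⟨_, k, hk, rfl⟩
        obtain ⟨j, hj⟩ := hNp ⟨ρ k, hk.1⟩
        have h1 : ((k ^ r ^ j : ↥(normalizer (P : Set G))) : G) ∈ P :=
          hker _ (pow_mem hk.2 _) (by rw [map_pow]; exact congrArg Subtype.val hj)
        obtain ⟨i, hi⟩ := hPp ⟨_, h1⟩
        refine ⟨j + i, Subtype.ext ?_⟩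
        have h2 := congrArg Subtype.val hi
        simp only [SubmonoidClass.coe_pow, OneMemClass.coe_one] at h2
        show (k : G) ^ r ^ (j + i) = 1
        rw [pow_add, pow_mul]; exact h2
      have hNhn : (Nh.subgroupOf Q).Normal := ⟨fun y hy g => by
        obtain ⟨k, hk, hky⟩ := hy
        refine ⟨⟨g, hQP g.2⟩ * k * ⟨g, hQP g.2⟩⁻¹, ⟨?_, mul_mem (mul_mem g.2 hk.2) (Subgroup.inv_mem _ g.2)⟩, ?_⟩
        · show ρ _ ∈ N
          rw [map_mul, map_mul, map_inv]
          exact (mem_normalizer_iff.1 (hKN (mem_map_of_mem ρ (show (⟨g, hQP g.2⟩ : ↥(normalizer (P : Set G))) ∈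
            Q.subgroupOf _ from g.2))) _).1 hk.1
        · show (g : G) * k * (g : G)⁻¹ = (g : G) * y * (g : G)⁻¹
          rw [show (k : G) = y from hky]⟩
      have hle : Nh.subgroupOf Q ≤ Pc := Cfsg.Agent.Cores.le_pCore
        (hNhp.comap_of_injective Q.subtype Subtype.coe_injective)
      obtain ⟨k, hk, rfl⟩ := hNK hx
      obtain ⟨y, hy, hyk⟩ : (k : G) ∈ P := ⟨⟨k, hk⟩, hle ⟨k, ⟨hx, hk⟩, rfl⟩, rfl⟩
      refine MulEquiv.ext fun v => ?_
      induction v using QuotientGroup.induction_on with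
      | H u =>
        rw [hρ, MulAut.one_apply]
        have hkP : (k : G) ∈ P := ⟨y, hy, hyk⟩
        have h1 : P.normalizerMonoidHom k u = (⟨k, hkP⟩ : ↥P) * u * (⟨k, hkP⟩ : ↥P)⁻¹ := rfl
        rw [h1, QuotientGroup.mk_mul, QuotientGroup.mk_mul, QuotientGroup.mk_inv,
          hcomm.is_comm.comm (QuotientGroup.mk (⟨k, hkP⟩ : ↥P)), mul_inv_cancel_right]
    · -- fixed elements fix fixed vectors
      rintro _ ⟨k, hk, rfl⟩ hc v hv
      have hkd : ρ (k⁻¹ * (d' * k * d'⁻¹)) = 1 := by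
        rw [map_mul, map_mul, map_mul, map_inv, map_inv, hc, mul_inv_cancel_right, inv_mul_cancel]
      have hkdQ : ((k⁻¹ * (d' * k * d'⁻¹) : ↥(normalizer (P : Set G))) : G) ∈ Q :=
        mul_mem (inv_mem hk) ((mem_normalizer_iff.1 (h.d_norm (mem_zpowers d)) _).1 hk)
      obtain ⟨n, hn, hkn⟩ := Coprime.exists_fixed_in_coset (k := (k : G)) (zpowers_le.2 hdP) (h.coprime hPQ)
        (Or.inl h.solvable) (fun a ha => by
          rcases mem_zpowers_d h.dd ha with rfl | rfl
          · simp [one_mem]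
          · exact hker _ hkdQ hkd)
      have hkn' : d * ((k : G) * n) = (k : G) * n * d := mem_centralizer_iff.1 hkn d (mem_zpowers d)
      obtain ⟨x, rfl, hx⟩ := hlift v hv
      have hnN : n ∈ normalizer (P : Set G) := le_normalizer hn
      have h1 : ρ k (QuotientGroup.mk x) = ρ (k * ⟨n, hnN⟩) (QuotientGroup.mk x) := by
        rw [map_mul, MulAut.mul_apply, hρ ⟨n, hnN⟩ x]
        have h2 : P.normalizerMonoidHom ⟨n, hnN⟩ x = (⟨n, hn⟩ : ↥P) * x * (⟨n, hn⟩ : ↥P)⁻¹ := rfl
        rw [h2, QuotientGroup.mk_mul, QuotientGroup.mk_mul, QuotientGroup.mk_inv,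
          hcomm.is_comm.comm (QuotientGroup.mk (⟨n, hn⟩ : ↥P)), mul_inv_cancel_right]
      rw [h1, hρ]
      refine congrArg _ (Subtype.ext ?_)
      show (k : G) * n * (x : G) * ((k : G) * n)⁻¹ = x
      have e : (k : G) * n * (x : G) = x * ((k : G) * n) := h.ab _ (mul_mem hk (hPQ hn)) hkn' x (hPQ x.2) hx
      rw [e, mul_inv_cancel_right]
  refine commutator_le.2 fun k hk a ha => ?_
  rcases mem_zpowers_d h.dd ha with rfl | rfl
  · rw [commutatorElement_one_right]; exact one_mem _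
  · let k' : ↥(normalizer (P : Set G)) := ⟨k, hQP hk⟩
    have hc := hmain (ρ k') (mem_map_of_mem ρ (show k' ∈ Q.subgroupOf _ from hk))
    refine hker (k' * d' * k'⁻¹ * d'⁻¹) ?_ ?_
    · show k * a * k⁻¹ * a⁻¹ ∈ Q
      rw [mul_assoc k, mul_assoc k]
      exact mul_mem hk ((mem_normalizer_iff.1 (h.d_norm (mem_zpowers a)) k⁻¹).1 (inv_mem hk))
    · rw [map_mul, map_mul, map_mul, map_inv, map_inv, ← hc, mul_inv_cancel_right, mul_inv_cancel]

end Cfsg.Agent.OddTranspX.Kill
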