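import Cfsg.Agent.Lib.OddTranspX.Kill.Quot

/-!
# The torus case: the configuration and its `r`-local structure

`z` has prime order `r`, `U` is normalized by `C(z)` with abelian factor, contains `y` of order `r` and `s`
with `s ^ 4 = 1`, `s y s⁻¹ = y ^ μ`, `μ ^ 2 = -1` modulo `r`, and `C(y)` is odd with `C(y) ∩ C(s * s)` cyclic.
Then `z ∉ ⁅C(y), s * s⁆`, and a Sylow `r`-subgroup of `C(z)` is `T ⟨w⟩` with `T` inverted by `s * s`.
-/

set_option autoImplicit false
set_option linter.unusedSectionVars false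
set_option linter.style.haveILetI false

open Subgroup
open scoped commutatorElement

namespace Cfsg.Agent.OddTranspX.Kill

open Cfsg.Agent.Walter.Core (mem_of_sq odd_orderOf_of_mem mem_normalizer_of_conj_le)

universe u

variable {G : Type u} [Group G] [Finite G]

/-- The configuration. -/
structure KillData (r μ : ℕ) (U : Subgroup G) (z y s : G) : Prop where
  prime : r.Prime
  ne_two : r ≠ 2
  hμ : r ∣ μ * μ + 1
  oz : orderOf z = r
  oy : orderOf y = r
  yU : y ∈ U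
  sU : s ∈ U
  s4 : s ^ 4 = 1
  sy : s * y * s⁻¹ = y ^ μ
  le_cent : U ≤ centralizer ({z} : Set G)
  zU : z ∉ U
  norm : ∀ x, Commute x z → ∀ u ∈ U, x * u * x⁻¹ ∈ U
  abel : ∀ x x', Commute x z → Commute x' z → x * x' * x⁻¹ * x'⁻¹ ∈ U
  two : ∀ x (k : ℕ), Commute x z → x ^ 2 ^ k = 1 → x ∈ U
  nz : ∀ g, g * z * g⁻¹ ∈ zpowers z → Commute g z
  Ucyc : ∀ T : Subgroup G, T ≤ U → IsPGroup r T → IsCyclic T
  cu : ∀ u ∈ U, Commute u y → Commute u (s * s) → u = 1
  oddQ : Odd (Nat.card (centralizer ({y} : Set G)))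
  Fcyc : IsCyclic ↥(centralizer ({y} : Set G) ⊓ centralizer ({s * s} : Set G))
  auto : ∀ x ∈ U, ∀ k : ℕ, x ^ 2 ^ k = 1 → x * y * x⁻¹ ∈ zpowers y → ∃ n : ℕ, x * y * x⁻¹ = y ^ μ ^ n

theorem mem_cent {x a : G} : x ∈ centralizer ({a} : Set G) ↔ Commute x a := mem_centralizer_singleton_iff

/-- An `r`-element normalizing a subgroup of order `r` centralizes it. -/
theorem commute_of_normalizes {r : ℕ} [Fact r.Prime] {P : Subgroup G} (hP : IsPGroup r P) {y : G}
    (hy : y ∈ P) (ho : orderOf y = r) (hn : ∀ x ∈ P, x * y * x⁻¹ ∈ zpowers y) :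
    ∀ x ∈ P, Commute x y := by
  haveI := hP.isNilpotent
  set N := (zpowers y).subgroupOf P
  have hyP : zpowers y ≤ P := zpowers_le.2 hy
  haveI : N.Normal := ⟨fun a ha g => by
    obtain ⟨i, hi⟩ := (mem_zpowers_iff.1 (show (a : G) ∈ zpowers y from ha))
    show (g : G) * a * (g : G)⁻¹ ∈ zpowers y
    rw [← hi, ← conj_zpow]
    exact zpow_mem (hn g g.2) i⟩
  have hne : N ≠ ⊥ := fun e => by
    have h1 : (⟨y, hy⟩ : P) ∈ N := mem_zpowers y
    rw [e, mem_bot] at h1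
    have h2 : y = 1 := congrArg Subtype.val h1
    exact (Fact.out : r.Prime).ne_one (by rw [← ho, h2, orderOf_one])
  have hc := Cfsg.Agent.Solvable.Basics.inf_center_ne_bot hne
  obtain ⟨a, ha, ha1⟩ := (bot_or_exists_ne_one _).resolve_left hc
  have hay : zpowers (a : G) = zpowers y := by
    refine eq_of_le_of_card_ge (zpowers_le.2 ha.1) ?_
    have h1 : orderOf (a : G) ∣ r := ho ▸ by
      rw [← Nat.card_zpowers y]; exact (zpowers y).orderOf_dvd_natCard ha.1
    rw [Nat.card_zpowers, Nat.card_zpowers, ho]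
    rcases (Nat.dvd_prime Fact.out).1 h1 with e | e
    · exact absurd (orderOf_eq_one_iff.1 e) (fun e1 => ha1 (Subtype.ext e1))
    · rw [e]
  intro x hx
  obtain ⟨i, hi⟩ := mem_zpowers_iff.1 (hay.symm ▸ mem_zpowers y : y ∈ zpowers (a : G))
  rw [← hi]
  exact (show Commute x (a : G) from congrArg Subtype.val (mem_center_iff.1 ha.2 ⟨x, hx⟩)).zpow_right i

namespace KillData

variable {r μ : ℕ} {U : Subgroup G} {z y s : G} (h : KillData r μ U z y s)

include h

theorem fact : Fact r.Prime := ⟨h.prime⟩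

theorem dd : (s * s) * (s * s) = 1 := by rw [← h.s4]; simp [pow_succ, mul_assoc]

theorem di : (s * s)⁻¹ = s * s := inv_eq_of_mul_eq_one_right h.dd

theorem zy : Commute z y := (mem_cent.1 (h.le_cent h.yU)).symm

theorem zs : Commute z s := (mem_cent.1 (h.le_cent h.sU)).symm

theorem dU : s * s ∈ U := mul_mem h.sU h.sU

theorem zd : Commute z (s * s) := h.zs.mul_right h.zs

theorem yr : y ^ r = 1 := h.oy ▸ pow_orderOf_eq_one y

theorem zr : z ^ r = 1 := h.oz ▸ pow_orderOf_eq_one z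

theorem z_ne : z ≠ 1 := fun e => h.prime.ne_one (by rw [← h.oz, e, orderOf_one])

theorem y_ne : y ≠ 1 := fun e => h.prime.ne_one (by rw [← h.oy, e, orderOf_one])

theorem dy : s * s * y * (s * s)⁻¹ = y⁻¹ := by
  rw [show s * s * y * (s * s)⁻¹ = s * (s * y * s⁻¹) * s⁻¹ by group, h.sy, ← conj_pow, h.sy,
    eq_comm, inv_eq_iff_mul_eq_one, ← pow_mul, ← pow_succ']
  exact orderOf_dvd_iff_pow_eq_one.1 (h.oy ▸ h.hμ)

theorem sy_iff {x : G} (hx : Commute x y) : Commute (s * x * s⁻¹) y := by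
  have hco : Nat.Coprime μ r := ((h.prime.coprime_iff_not_dvd).2 fun hd => h.prime.ne_one
    (Nat.dvd_one.1 ((Nat.dvd_add_right (hd.mul_right μ)).1 h.hμ))).symm
  have hyz : y ∈ zpowers (s * y * s⁻¹) := by
    rw [h.sy]
    have : zpowers (y ^ μ) = zpowers y := eq_of_le_of_card_ge (zpowers_le.2 (pow_mem (mem_zpowers y) μ)) (by
      rw [Nat.card_zpowers, Nat.card_zpowers, (Nat.Coprime.orderOf_pow (h.oy.symm ▸ hco.symm : (orderOf y).Coprime μ))])
    rw [this]; exact mem_zpowers y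
  obtain ⟨i, hi⟩ := mem_zpowers_iff.1 hyz
  rw [← hi]
  refine Commute.zpow_right ?_ i
  show s * x * s⁻¹ * (s * y * s⁻¹) = s * y * s⁻¹ * (s * x * s⁻¹)
  rw [show s * x * s⁻¹ * (s * y * s⁻¹) = s * (x * y) * s⁻¹ by group, hx.eq]; group

theorem sd_iff {x : G} (hx : Commute x (s * s)) : Commute (s * x * s⁻¹) (s * s) := by
  show s * x * s⁻¹ * (s * s) = s * s * (s * x * s⁻¹)
  rw [show s * x * s⁻¹ * (s * s) = s * (x * (s * s)) * s⁻¹ by group, hx.eq]; group

theorem zF : z ∈ centralizer ({y} : Set G) ⊓ centralizer ({s * s} : Set G) :=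
  ⟨mem_cent.2 h.zy, mem_cent.2 h.zd⟩

theorem F_comm {a b : G} (ha : a ∈ centralizer ({y} : Set G) ⊓ centralizer ({s * s} : Set G))
    (hb : b ∈ centralizer ({y} : Set G) ⊓ centralizer ({s * s} : Set G)) : Commute a b := by
  haveI := h.Fcyc
  exact congrArg Subtype.val (IsMulCommutative.is_comm.comm
    (⟨a, ha⟩ : ↥(centralizer ({y} : Set G) ⊓ centralizer ({s * s} : Set G))) ⟨b, hb⟩)

/-- `s` centralizes `C(y) ∩ C(s * s)`. -/
theorem F_fix {x : G} (hx : x ∈ centralizer ({y} : Set G) ⊓ centralizer ({s * s} : Set G)) :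
    Commute s x := by
  have hxz : Commute x z := h.F_comm hx h.zF
  have hU : s * x * s⁻¹ * x⁻¹ ∈ U := by
    rw [show s * x * s⁻¹ * x⁻¹ = s * (x * s⁻¹ * x⁻¹) by group]
    exact mul_mem h.sU (h.norm x hxz _ (Subgroup.inv_mem _ h.sU))
  have h1 := h.cu _ hU ((h.sy_iff (mem_cent.1 hx.1)).mul_left (mem_cent.1 hx.1).inv_left)
    ((h.sd_iff (mem_cent.1 hx.2)).mul_left (mem_cent.1 hx.2).inv_left)
  exact mul_inv_eq_iff_eq_mul.1 (mul_inv_eq_one.1 h1)

theorem qdata : QData (centralizer ({y} : Set G)) s (s * s) where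
  odd := h.oddQ
  sq := rfl
  dd := h.dd
  norm x hx := mem_cent.2 (h.sy_iff (mem_cent.1 hx))
  fix x hx hc := (h.F_fix ⟨hx, mem_cent.2 hc.symm⟩).eq
  ab x hx hc x' hx' hc' := (h.F_comm ⟨hx, mem_cent.2 hc.symm⟩ ⟨hx', mem_cent.2 hc'.symm⟩).eq

theorem odd_orderOf {x : G} (hx : Commute x y) : Odd (orderOf x) :=
  odd_orderOf_of_mem h.oddQ (mem_cent.2 hx)

/-- The `r`-part of `C(y) ∩ C(s * s)` is cyclic. -/
theorem exists_w : ∃ w ∈ centralizer ({y} : Set G) ⊓ centralizer ({s * s} : Set G),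
    (∃ k, orderOf w = r ^ k) ∧ z ∈ zpowers w ∧
      ∀ x ∈ centralizer ({y} : Set G) ⊓ centralizer ({s * s} : Set G), (∃ k, orderOf x = r ^ k) → x ∈ zpowers w := by
  haveI := h.fact
  haveI := h.Fcyc
  set F := centralizer ({y} : Set G) ⊓ centralizer ({s * s} : Set G)
  obtain ⟨⟨g, hgF⟩, hg⟩ := IsCyclic.exists_generator (α := F)
  set n := Nat.card F with hn
  have hgo : orderOf g = n := by
    rw [hn, ← orderOf_eq_card_of_forall_mem_zpowers hg, Subgroup.orderOf_mk]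
  set o := r ^ n.factorization r with ho
  have hon : o ∣ n := Nat.ordProj_dvd n r
  have hnpos : 0 < n := Nat.card_pos
  refine ⟨g ^ (n / o), pow_mem hgF _, ⟨n.factorization r, ?_⟩, ?_⟩
  · rw [orderOf_pow_of_dvd (Nat.div_pos (Nat.le_of_dvd hnpos hon) (pow_pos h.prime.pos _)).ne'
      (by rw [hgo]; exact Nat.div_dvd_of_dvd hon), hgo, Nat.div_div_self hon hnpos.ne']
  have key : ∀ x ∈ F, (∃ k, orderOf x = r ^ k) → x ∈ zpowers (g ^ (n / o)) := by
    rintro x hx ⟨k, hk⟩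
    have hwo : orderOf (g ^ (n / o)) = o := by
      rw [orderOf_pow_of_dvd (Nat.div_pos (Nat.le_of_dvd hnpos hon) (pow_pos h.prime.pos _)).ne'
        (by rw [hgo]; exact Nat.div_dvd_of_dvd hon), hgo, Nat.div_div_self hon hnpos.ne']
    have hxo : orderOf x ∣ o := by
      have h1 : r ^ k ∣ n := hk ▸ F.orderOf_dvd_natCard hx
      rw [hk, ho]
      exact pow_dvd_pow r ((h.prime.pow_dvd_iff_le_factorization hnpos.ne').1 h1)
    obtain ⟨i, hi⟩ := mem_zpowers_iff.1 (mem_zpowers_of_pow_eq_one (A := ↥F) (a := ⟨_, pow_mem hgF (n / o)⟩)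
      (b := ⟨x, hx⟩) (Subtype.ext (by
        rw [Subgroup.orderOf_mk, hwo]; simpa using orderOf_dvd_iff_pow_eq_one.1 hxo)))
    exact ⟨i, congrArg Subtype.val hi⟩
  exact ⟨key z h.zF ⟨1, by rw [h.oz, pow_one]⟩, key⟩

/-- The inverted part of an element of `U ∩ C(y)` in an abelian subgroup. -/
theorem inverted_of_mem {T : Subgroup G} (hTU : T ≤ U) (hTy : T ≤ centralizer ({y} : Set G))
    (hab : ∀ a ∈ T, ∀ b ∈ T, a * b = b * a) (hdT : ∀ t ∈ T, s * s * t * (s * s)⁻¹ ∈ T) {t : G} (ht : t ∈ T) :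
    s * s * t * (s * s)⁻¹ = t⁻¹ := by
  set t' := s * s * t * (s * s)⁻¹ with ht'
  have ht'T := hdT t ht
  have h1 : t * t' = 1 := by
    refine h.cu _ (hTU (mul_mem ht ht'T)) (mem_cent.1 (hTy (mul_mem ht ht'T))) ?_
    have hd2 : s * s * t' * (s * s)⁻¹ = t := by
      rw [ht', h.di, show s * s * (s * s * t * (s * s)) * (s * s) = (s * s * (s * s)) * t * (s * s * (s * s)) by group,
        h.dd, one_mul, mul_one]
    refine (mul_inv_eq_iff_eq_mul.1 ?_).symm
    rw [show s * s * (t * t') * (s * s)⁻¹ = s * s * t * (s * s)⁻¹ * (s * s * t' * (s * s)⁻¹) by group, hd2, ← ht',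
      hab _ ht'T _ ht]
  exact eq_inv_of_mul_eq_one_right h1

/-- The `r`-local structure. -/
theorem exists_sylow : ∃ (R : Subgroup G) (w : G), R ≤ centralizer ({y} : Set G) ∧
    RData r μ R (R ⊓ U) s (s * s) y w z ∧
    (¬ r ∣ R.relIndex (centralizer ({y} : Set G))) ∧ z ∈ R ∧
    ∀ S : Subgroup G, S ≤ centralizer ({z} : Set G) → IsPGroup r S →
      Nat.card S ≤ Nat.card ↥(R ⊓ centralizer ({z} : Set G)) := by
  classical
  haveI := h.fact
  obtain ⟨w, hwF, ⟨kw, hkw⟩, hzw, hwmax⟩ := h.exists_w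
  set Q := centralizer ({y} : Set G)
  have hwy : Commute w y := mem_cent.1 hwF.1
  have hws : Commute s w := h.F_fix hwF
  have hwz : Commute w z := h.F_comm hwF h.zF
  set A := zpowers s with hA
  have hAcop : ∀ K : Subgroup G, K ≤ Q → (Nat.card A).Coprime (Nat.card K) := fun K hK => by
    have h2 : Nat.card A ∣ 2 ^ 2 := by
      rw [hA, Nat.card_zpowers]; exact orderOf_dvd_of_pow_eq_one h.s4
    exact ((Nat.coprime_two_left.2 (h.oddQ.of_dvd_nat (card_dvd_of_le hK))).pow_left 2).coprime_dvd_left h2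
  have hAsol : Group.IsSolvable A := Group.isSolvable_of_comm fun a b => by
    obtain ⟨a, i, rfl⟩ := a; obtain ⟨b, j, rfl⟩ := b
    exact Subtype.ext ((Commute.refl s).zpow_zpow i j).eq
  have hAn : ∀ K : Subgroup G, (∀ x ∈ K, s * x * s⁻¹ ∈ K) → A ≤ normalizer (K : Set G) := fun K hK =>
    zpowers_le.2 (mem_normalizer_of_conj_le hK)
  have hAn' : ∀ K : Subgroup G, A ≤ normalizer (K : Set G) → ∀ x ∈ K, s * x * s⁻¹ ∈ K := fun K hK x hx =>
    (mem_normalizer_iff.1 (hK (mem_zpowers s)) x).1 hx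
  -- the group of `y` and `w`
  set A1 := zpowers y ⊔ zpowers w
  have hyw : zpowers w ≤ normalizer (zpowers y : Set G) := zpowers_le.2
    (centralizer_le_normalizer _ (mem_centralizer_iff.2 fun b hb => by
      obtain ⟨i, rfl⟩ := hb
      exact (hwy.symm.zpow_left i).eq))
  have hA1p : IsPGroup r A1 := IsPGroup.to_sup_of_normal_left'
    (IsPGroup.of_card (n := 1) (by rw [Nat.card_zpowers, h.oy, pow_one]))
    (IsPGroup.of_card (n := kw) (by rw [Nat.card_zpowers, hkw])) hyw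
  set K := Q ⊓ centralizer ({z} : Set G) with hK
  have hA1K : A1 ≤ K := sup_le (zpowers_le.2 ⟨mem_cent.2 (Commute.refl y), mem_cent.2 h.zy.symm⟩)
    (zpowers_le.2 ⟨mem_cent.2 hwy, mem_cent.2 hwz⟩)
  have hA1s : A ≤ normalizer (A1 : Set G) := by
    refine hAn _ fun x hx => ?_
    have hle : A1 ≤ A1.comap (MulAut.conj s).toMonoidHom := sup_le
      (zpowers_le.2 (show s * y * s⁻¹ ∈ A1 from h.sy ▸ mem_sup_left (pow_mem (mem_zpowers y) μ)))
      (zpowers_le.2 (show s * w * s⁻¹ ∈ A1 by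
        rw [hws.eq, mul_inv_cancel_right]; exact mem_sup_right (mem_zpowers w)))
    exact hle hx
  have hKs : A ≤ normalizer (K : Set G) := hAn _ fun x hx => ⟨h.qdata.norm x hx.1, mem_cent.2 (by
    have hc := mem_cent.1 hx.2
    exact (h.zs.symm.mul_left hc).mul_left h.zs.symm.inv_left)⟩
  obtain ⟨P1, hA1P, hP1s⟩ := Coprime.exists_invariant_sylow_ge (p := r) hKs (hAcop K inf_le_left)
    (Or.inl hAsol) hA1K hA1p hA1s
  set P1G := (P1 : Subgroup K).map K.subtype with hP1G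
  have hP1p : IsPGroup r P1G := P1.2.map _
  have hP1K : P1G ≤ K := map_subtype_le _
  obtain ⟨P2, hP1R, hRs⟩ := Coprime.exists_invariant_sylow_ge (p := r) (hAn Q h.qdata.norm) (hAcop Q le_rfl)
    (Or.inl hAsol) (hP1K.trans inf_le_left) hP1p hP1s
  set R := (P2 : Subgroup Q).map Q.subtype with hR
  have hRQ : R ≤ Q := map_subtype_le _
  have hRp : IsPGroup r R := P2.2.map _
  have hRn := hAn' R hRs
  have hyR : y ∈ R := hP1R (hA1P (mem_sup_left (mem_zpowers y)))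
  have hwR : w ∈ R := hP1R (hA1P (mem_sup_right (mem_zpowers w)))
  have hidx : ¬ r ∣ R.relIndex Q := by
    rw [hR, relIndex, subgroupOf, comap_map_eq_self_of_injective Q.subtype_injective]
    exact P2.not_dvd_index
  have hTp : IsPGroup r ↥(R ⊓ U) := hRp.to_le inf_le_left
  have hTcyc : IsCyclic ↥(R ⊓ U) := h.Ucyc _ inf_le_right hTp
  have hTab : ∀ a ∈ R ⊓ U, ∀ b ∈ R ⊓ U, a * b = b * a := fun a ha b hb => by
    haveI := hTcyc
    exact congrArg Subtype.val (IsMulCommutative.is_comm.comm (⟨a, ha⟩ : ↥(R ⊓ U)) ⟨b, hb⟩)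
  have hdR : ∀ x ∈ R, s * s * x * (s * s)⁻¹ ∈ R := fun x hx => by
    rw [show s * s * x * (s * s)⁻¹ = s * (s * x * s⁻¹) * s⁻¹ by group]
    exact hRn _ (hRn x hx)
  have hTinv : ∀ t ∈ R ⊓ U, s * s * t * (s * s)⁻¹ = t⁻¹ := fun t ht =>
    h.inverted_of_mem inf_le_right (inf_le_left.trans hRQ) hTab (fun a ha =>
      ⟨hdR a ha.1, mul_mem (mul_mem h.dU ha.2) (Subgroup.inv_mem _ h.dU)⟩) ht
  have hline : ∀ x ∈ R, s * s * x = x * (s * s) → x ∈ zpowers w := fun x hx hc => by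
    obtain ⟨k, hk⟩ := IsPGroup.iff_orderOf.1 hRp ⟨x, hx⟩
    exact hwmax x ⟨hRQ hx, mem_cent.2 hc.symm⟩ ⟨k, by rwa [Subgroup.orderOf_mk] at hk⟩
  have hsplit : ∀ x ∈ R, x * z = z * x → ∃ t ∈ R ⊓ U, ∃ i : ℤ, x = t * w ^ i := by
    intro x hx hxz
    have hdz : Commute (s * s) z := h.zd.symm
    set t := x⁻¹ * (s * s * x * (s * s)⁻¹) with ht
    have htT : t ∈ R ⊓ U := ⟨mul_mem (Subgroup.inv_mem _ hx) (hdR x hx), by
      rw [ht, ← mul_assoc]
      refine mul_mem ?_ (Subgroup.inv_mem _ h.dU)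
      have h1 := h.norm x⁻¹ (show Commute x z from hxz).inv_left _ h.dU
      rwa [inv_inv, mul_assoc] at h1⟩
    obtain ⟨l, hl⟩ := h.odd_orderOf (mem_cent.1 (hRQ htT.1))
    set f := x * t ^ (l + 1) with hf
    have hfd : s * s * f = f * (s * s) := by
      refine mul_inv_eq_iff_eq_mul.1 ?_
      rw [hf, show s * s * (x * t ^ (l + 1)) * (s * s)⁻¹ =
        (s * s * x * (s * s)⁻¹) * (s * s * t ^ (l + 1) * (s * s)⁻¹) by group, hTinv _ (pow_mem htT _),
        show s * s * x * (s * s)⁻¹ = x * t by rw [ht, mul_inv_cancel_left], mul_assoc]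
      congr 1
      rw [← mul_inv_eq_one, mul_assoc, ← mul_inv_rev, ← pow_add,
        show l + 1 + (l + 1) = orderOf t + 1 by omega, pow_succ, pow_orderOf_eq_one, one_mul, mul_inv_cancel]
    obtain ⟨i, hi⟩ := mem_zpowers_iff.1 (hline f (mul_mem hx (pow_mem htT.1 _)) hfd)
    refine ⟨w ^ i * (t ^ (l + 1))⁻¹ * (w ^ i)⁻¹, ⟨mul_mem (mul_mem (zpow_mem hwR i)
      (Subgroup.inv_mem _ (pow_mem htT.1 _))) (Subgroup.inv_mem _ (zpow_mem hwR i)),
      h.norm _ (hwz.zpow_left i) _ (Subgroup.inv_mem _ (pow_mem htT.2 _))⟩, i, ?_⟩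
    rw [inv_mul_cancel_right, hi, hf, mul_inv_cancel_right]
  refine ⟨R, w, hRQ, ?_, hidx, zpowers_le.2 hwR hzw, ?_⟩
  · exact
      { prime := h.prime, ne_two := h.ne_two, hμ := h.hμ, pgroup := hRp, sq := rfl, dd := h.dd, norm := hRn
        oy := h.oy, sy := h.sy, central := fun x hx => (mem_cent.1 (hRQ hx)).eq, sw := hws.eq, wR := hwR
        zw := hzw, oz := h.oz, line := hline, TR := inf_le_left, yT := ⟨hyR, h.yU⟩, Tcyc := hTcyc
        Tinv := hTinv, Tz := fun t ht => (mem_cent.1 (h.le_cent ht.2)).eq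
        Tnorm := fun x hx hxz t ht => ⟨mul_mem (mul_mem hx ht.1) (Subgroup.inv_mem _ hx), h.norm x hxz t ht.2⟩
        split := hsplit }
  · -- a Sylow subgroup of `C(z)` containing `y` lies in `C(y)`
    intro S hS hSp
    set C := centralizer ({z} : Set G)
    have hyC : y ∈ C := mem_cent.2 h.zy.symm
    obtain ⟨S', hS'⟩ := (hSp.comap_of_injective C.subtype Subtype.coe_injective).exists_le_sylow
    have hyp : IsPGroup r (zpowers (⟨y, hyC⟩ : C)) :=
      IsPGroup.of_card (n := 1) (by rw [Nat.card_zpowers, Subgroup.orderOf_mk, h.oy, pow_one])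
    obtain ⟨S'', hS''⟩ := hyp.exists_le_sylow
    set S2 := (S'' : Subgroup C).map C.subtype with hS2
    have hS2C : S2 ≤ C := map_subtype_le _
    have hyS2 : y ∈ S2 := ⟨⟨y, hyC⟩, hS'' (mem_zpowers _), rfl⟩
    have hS2p : IsPGroup r S2 := S''.2.map _
    have hS2y : S2 ≤ Q := by
      intro x hx
      refine mem_cent.2 (commute_of_normalizes hS2p hyS2 h.oy (fun a ha => ?_) x hx)
      haveI hcyc : IsCyclic ↥(S2 ⊓ U) := h.Ucyc _ inf_le_right (hS2p.to_le inf_le_left)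
      have haU : a * y * a⁻¹ ∈ S2 ⊓ U :=
        ⟨mul_mem (mul_mem ha hyS2) (Subgroup.inv_mem _ ha), h.norm a (mem_cent.1 (hS2C ha)) y h.yU⟩
      obtain ⟨i, hi⟩ := mem_zpowers_iff.1 (mem_zpowers_of_pow_eq_one (A := ↥(S2 ⊓ U))
        (a := (⟨y, hyS2, h.yU⟩ : ↥(S2 ⊓ U))) (b := ⟨_, haU⟩) (Subtype.ext (by
          show (a * y * a⁻¹) ^ orderOf (⟨y, hyS2, h.yU⟩ : ↥(S2 ⊓ U)) = 1
          rw [← Subgroup.orderOf_coe]
          show (a * y * a⁻¹) ^ orderOf y = 1
          rw [h.oy, conj_pow, h.yr, mul_one, mul_inv_cancel])))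
      exact ⟨i, congrArg Subtype.val hi⟩
    have e1 : Nat.card S ≤ Nat.card S2 := by
      rw [hS2, Subgroup.card_map_of_injective C.subtype_injective, S''.card_eq_multiplicity, ← S'.card_eq_multiplicity,
        ← Nat.card_congr (Subgroup.subgroupOfEquivOfLe hS).toEquiv]
      exact card_le_of_le hS'
    obtain ⟨P', hP'⟩ := (hS2p.comap_of_injective K.subtype Subtype.coe_injective).exists_le_sylow
    have e2 : Nat.card S2 ≤ Nat.card P1G := by
      rw [hP1G, Subgroup.card_map_of_injective K.subtype_injective, P1.card_eq_multiplicity, ← P'.card_eq_multiplicity,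
        ← Nat.card_congr (Subgroup.subgroupOfEquivOfLe (show S2 ≤ K from le_inf hS2y hS2C)).toEquiv]
      exact card_le_of_le hP'
    exact e1.trans (e2.trans (card_le_of_le (le_inf hP1R (hP1K.trans inf_le_right))))

end KillData

end Cfsg.Agent.OddTranspX.Kill
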