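import Cfsg.Agent.Lib.OddTranspX.Kill.Data
import Cfsg.Agent.Lib.Fusion.Elementwise

/-!
# The torus case: fusion of `y` in the centralizer of `z`

With `P₀` a Sylow `r`-subgroup of `C(z)` the elements of order `r` in `P₀` form `⟨y⟩ × ⟨z⟩`, and every
conjugate of `y` in it is a power of `y`.
-/

set_option autoImplicit false
set_option linter.unusedSectionVars false
set_option linter.style.haveILetI false

open Subgroup
open scoped commutatorElement Pointwise

namespace Cfsg.Agent.OddTranspX.Kill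

open Cfsg.Agent.Walter.Core (mem_normalizer_of_conj_le)

universe u

variable {G : Type u} [Group G] [Finite G]

theorem exists_zpow_mul {a b x : G} (hab : Commute a b) (hx : x ∈ zpowers a ⊔ zpowers b) :
    ∃ i j : ℤ, x = a ^ i * b ^ j := by
  let H : Subgroup G :=
    { carrier := {x | ∃ i j : ℤ, x = a ^ i * b ^ j}
      one_mem' := ⟨0, 0, by simp⟩
      mul_mem' := by
        rintro _ _ ⟨i, j, rfl⟩ ⟨k, l, rfl⟩
        exact ⟨i + k, j + l, by rw [zpow_add, zpow_add, mul_assoc, ← mul_assoc (b ^ j),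
          ((hab.zpow_zpow k j).symm).eq, mul_assoc, mul_assoc]⟩
      inv_mem' := by
        rintro _ ⟨i, j, rfl⟩
        exact ⟨-i, -j, by rw [mul_inv_rev, zpow_neg, zpow_neg, ((hab.zpow_zpow i j).inv_inv).eq]⟩ }
  exact (show zpowers a ⊔ zpowers b ≤ H from sup_le (zpowers_le.2 ⟨1, 0, by simp⟩)
    (zpowers_le.2 ⟨0, 1, by simp⟩)) hx

/-- An `r`-element of a subgroup is conjugate in it into every largest `r`-subgroup. -/
theorem exists_conj_mem {r : ℕ} [Fact r.Prime] {C P : Subgroup G} (hPC : P ≤ C) (hP : IsPGroup r P)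
    (hmax : ∀ S : Subgroup G, S ≤ C → IsPGroup r S → Nat.card S ≤ Nat.card P) {u : G} (hu : u ∈ C)
    (hur : u ^ r = 1) : ∃ c ∈ C, c * u * c⁻¹ ∈ P := by
  obtain ⟨S', hS'⟩ := (hP.comap_of_injective C.subtype Subtype.coe_injective).exists_le_sylow
  have he : P.subgroupOf C = (S' : Subgroup C) := eq_of_le_of_card_ge hS' (by
    rw [Nat.card_congr (Subgroup.subgroupOfEquivOfLe hPC).toEquiv,
      ← Subgroup.card_map_of_injective C.subtype_injective]
    exact hmax _ (map_subtype_le _) (S'.2.map _))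
  have hp : IsPGroup r (zpowers (⟨u, hu⟩ : C)) := by
    rintro ⟨x, i, rfl⟩
    refine ⟨1, Subtype.ext (Subtype.ext ?_)⟩
    show (u ^ i) ^ r ^ 1 = 1
    rw [pow_one, ← zpow_natCast, ← zpow_mul, mul_comm, zpow_mul, zpow_natCast, hur, one_zpow]
  obtain ⟨S1, hS1⟩ := hp.exists_le_sylow
  obtain ⟨c, hc⟩ := MulAction.exists_smul_eq C S1 S'
  refine ⟨c, c.2, ?_⟩
  have h1 : MulAut.conj c • (⟨u, hu⟩ : C) ∈ MulAut.conj c • (S1 : Subgroup C) :=
    Subgroup.smul_mem_pointwise_smul _ _ _ (hS1 (mem_zpowers _))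
  rw [← Sylow.coe_subgroup_smul, hc, ← he] at h1
  exact h1

/-- A proper `r`-subgroup of an `r`-group is normalized by an element outside it. -/
theorem exists_normalizing {r : ℕ} [Fact r.Prime] {P S : Subgroup G} (hS : IsPGroup r S) (hlt : P < S) :
    ∃ x ∈ S, x ∉ P ∧ ∀ a ∈ P, x * a * x⁻¹ ∈ P := by
  haveI := hS.isNilpotent
  obtain ⟨x, hx, hxP⟩ := SetLike.exists_of_lt (Group.normalizerCondition_of_isNilpotent (G := S) (P.subgroupOf S)
    (lt_top_iff_ne_top.2 fun e => hlt.not_ge (subgroupOf_eq_top.1 e)))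
  exact ⟨x, x.2, hxP, fun a ha => (mem_normalizer_iff.1 hx ⟨a, hlt.le ha⟩).1 ha⟩

/-- A Sylow `r`-subgroup of `C(z)`. -/
structure Local (r : ℕ) (P : Subgroup G) (z y s : G) : Prop where
  le : P ≤ centralizer ({z} : Set G)
  pgroup : IsPGroup r P
  yP : y ∈ P
  zP : z ∈ P
  central : ∀ x ∈ P, Commute x y
  omega : ∀ x ∈ P, x ^ r = 1 → x ∈ zpowers y ⊔ zpowers z
  sP : ∀ x ∈ P, s * x * s⁻¹ ∈ P
  max : ∀ S : Subgroup G, S ≤ centralizer ({z} : Set G) → IsPGroup r S → Nat.card S ≤ Nat.card P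

namespace KillData

variable {r μ : ℕ} {U : Subgroup G} {z y s : G} (h : KillData r μ U z y s)

include h

theorem not_mem_comm : z ∉ ⁅centralizer ({y} : Set G), zpowers (s * s)⁆ := fun hz => by
  haveI := h.fact
  obtain ⟨R, w, hRQ, hdat, hidx, hzR, -⟩ := h.exists_sylow
  exact hdat.not_mem_commutator (h.qdata.mem_commutator h.ne_two hRQ hdat.pgroup hidx hdat.norm hz hzR)

theorem two_ne : ∀ {g : G}, orderOf g = r → g⁻¹ ≠ g := fun {g} hg e => by
  have h2 : g ^ 2 = 1 := by rw [pow_two]; exact mul_eq_one_iff_eq_inv.2 e.symm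
  exact h.ne_two ((Nat.prime_dvd_prime_iff_eq h.prime Nat.prime_two).1 (hg ▸ orderOf_dvd_of_pow_eq_one h2))

/-- No conjugate of `z` is a power of `y`. -/
theorem nzy (g : G) : g * z * g⁻¹ ∉ zpowers y := fun hm => by
  obtain ⟨i, hi⟩ := mem_zpowers_iff.1 hm
  set g' := g⁻¹ * (s * s) * g with hg'
  have e : g' * z * g'⁻¹ = z⁻¹ := by
    have h1 : s * s * (g * z * g⁻¹) * (s * s)⁻¹ = (g * z * g⁻¹)⁻¹ := by rw [← hi, ← conj_zpow, h.dy, inv_zpow]
    calc g' * z * g'⁻¹ = g⁻¹ * (s * s * (g * z * g⁻¹) * (s * s)⁻¹) * g := by rw [hg']; group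
      _ = z⁻¹ := by rw [h1]; group
  have hc := h.nz g' (e ▸ Subgroup.inv_mem _ (mem_zpowers z))
  rw [hc.eq, mul_inv_cancel_right] at e
  exact h.two_ne h.oz e.symm

theorem exists_local : ∃ P : Subgroup G, Local r P z y s := by
  haveI := h.fact
  obtain ⟨R, w, hRQ, hdat, -, hzR, hmax⟩ := h.exists_sylow
  refine ⟨R ⊓ centralizer ({z} : Set G),
    { le := inf_le_right, pgroup := hdat.pgroup.to_le inf_le_left
      yP := ⟨hdat.yR, mem_cent.2 h.zy.symm⟩, zP := ⟨hzR, mem_cent.2 (Commute.refl z)⟩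
      central := fun x hx => mem_cent.1 (hRQ hx.1), omega := ?_
      sP := fun x hx => ⟨hdat.norm x hx.1, mem_cent.2
        ((h.zs.symm.mul_left (mem_cent.1 hx.2)).mul_left h.zs.symm.inv_left)⟩
      max := hmax }⟩
  intro x hx hxr
  obtain ⟨t, ht, i, rfl⟩ := hdat.split x hx.1 (mem_cent.1 hx.2).eq
  set u := w ^ i with hu
  have key : ∀ n : ℕ, (t * u) ^ n * (u ^ n)⁻¹ ∈ R ⊓ U := fun n => by
    induction n with
    | zero => simp
    | succ n ih =>
      rw [show (t * u) ^ (n + 1) * (u ^ (n + 1))⁻¹ = t * (u * ((t * u) ^ n * (u ^ n)⁻¹) * u⁻¹) by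
        rw [pow_succ', pow_succ, mul_inv_rev]; group]
      exact mul_mem ht (hdat.wT ih i)
  have hT := key r
  rw [hxr, one_mul] at hT
  have huT : u ^ r ∈ R ⊓ U := by simpa using Subgroup.inv_mem _ hT
  have hdu : Commute (s * s) (u ^ r) := (hdat.dw.zpow_right i).pow_right r
  have hur : u ^ r = 1 := hdat.eq_one huT.1 hdu.eq (hdat.Tinv _ huT)
  have huz : u ∈ zpowers z := hdat.mem_z (zpow_mem (mem_zpowers w) i) hur
  have htu : Commute t u := by
    obtain ⟨j, hj⟩ := huz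
    exact hj ▸ (show Commute t z from hdat.Tz t ht).zpow_right j
  rw [htu.mul_pow, hur, mul_one] at hxr
  exact mul_mem (mem_sup_left (hdat.mem_y ht hxr)) (mem_sup_right huz)

theorem mem_A {x : G} (hx : x ∈ zpowers y ⊔ zpowers z) : ∃ i j : ℤ, x = y ^ i * z ^ j :=
  exists_zpow_mul h.zy.symm hx

theorem A_pow {x : G} (hx : x ∈ zpowers y ⊔ zpowers z) : x ^ r = 1 := by
  obtain ⟨i, j, rfl⟩ := h.mem_A hx
  have e1 : ∀ (g : G) (i : ℤ), g ^ r = 1 → (g ^ i) ^ r = 1 := fun g i hg => by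
    rw [← zpow_natCast, ← zpow_mul, mul_comm, zpow_mul, zpow_natCast, hg, one_zpow]
  rw [((h.zy.symm).zpow_zpow i j).mul_pow, e1 y i h.yr, e1 z j h.zr, one_mul]

/-- What `s * s` fixes in `⟨y, z⟩`. -/
theorem A_fixed {x : G} (hx : x ∈ zpowers y ⊔ zpowers z) (hc : s * s * x * (s * s)⁻¹ = x) : x ∈ zpowers z := by
  obtain ⟨i, j, rfl⟩ := h.mem_A hx
  rw [show s * s * (y ^ i * z ^ j) * (s * s)⁻¹ = (s * s * y * (s * s)⁻¹) ^ i * (s * s * z ^ j * (s * s)⁻¹) by
    rw [conj_zpow]; group, h.dy, (h.zd.symm.zpow_right j).eq, mul_inv_cancel_right] at hc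
  have h1 : y ^ i = 1 := by
    have h2 : (y ^ i) ^ (2 : ℕ) = 1 := by
      rw [pow_two]; exact mul_eq_one_iff_eq_inv.2 (by rw [← inv_zpow]; exact (mul_right_cancel hc).symm)
    have h4 : orderOf (y ^ i) ∣ r := orderOf_dvd_of_pow_eq_one (by
      rw [← zpow_natCast, ← zpow_mul, mul_comm, zpow_mul, zpow_natCast, h.yr, one_zpow])
    rw [← orderOf_eq_one_iff]
    exact Nat.eq_one_of_dvd_coprimes ((Nat.coprime_primes h.prime Nat.prime_two).2 h.ne_two) h4
      (orderOf_dvd_of_pow_eq_one h2)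
  rw [h1, one_mul]
  exact zpow_mem (mem_zpowers z) j

/-- What `s * s` inverts in `⟨y, z⟩`. -/
theorem A_inverted {x : G} (hx : x ∈ zpowers y ⊔ zpowers z) (hc : s * s * x * (s * s)⁻¹ = x⁻¹) :
    x ∈ zpowers y := by
  obtain ⟨i, j, rfl⟩ := h.mem_A hx
  have hc' := h.zy.symm.zpow_zpow i j
  rw [show s * s * (y ^ i * z ^ j) * (s * s)⁻¹ = (s * s * y * (s * s)⁻¹) ^ i * (s * s * z ^ j * (s * s)⁻¹) by
    rw [conj_zpow]; group, h.dy, (h.zd.symm.zpow_right j).eq, mul_inv_cancel_right, mul_inv_rev,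
    (hc'.inv_inv).symm.eq, inv_zpow] at hc
  have h1 : z ^ j = 1 := by
    have h2 : (z ^ j) ^ (2 : ℕ) = 1 := by
      rw [pow_two]; exact mul_eq_one_iff_eq_inv.2 (mul_left_cancel hc)
    have h4 : orderOf (z ^ j) ∣ r := orderOf_dvd_of_pow_eq_one (by
      rw [← zpow_natCast, ← zpow_mul, mul_comm, zpow_mul, zpow_natCast, h.zr, one_zpow])
    rw [← orderOf_eq_one_iff]
    exact Nat.eq_one_of_dvd_coprimes ((Nat.coprime_primes h.prime Nat.prime_two).2 h.ne_two) h4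
      (orderOf_dvd_of_pow_eq_one h2)
  rw [h1, mul_one]
  exact zpow_mem (mem_zpowers y) i

theorem A_le {P : Subgroup G} (L : Local r P z y s) : zpowers y ⊔ zpowers z ≤ P :=
  sup_le (zpowers_le.2 L.yP) (zpowers_le.2 L.zP)

theorem A_conj {P : Subgroup G} (L : Local r P z y s) {g : G} (hg : ∀ a ∈ P, g * a * g⁻¹ ∈ P) {x : G}
    (hx : x ∈ zpowers y ⊔ zpowers z) : g * x * g⁻¹ ∈ zpowers y ⊔ zpowers z :=
  L.omega _ (hg x (h.A_le L hx)) (by rw [conj_pow, h.A_pow hx, mul_one, mul_inv_cancel])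

/-- Fusion when `P` is not a Sylow subgroup. -/
theorem fusion_of_normalizing {P : Subgroup G} (L : Local r P z y s) {x : G} (hx : x ∉ P)
    (hxn : ∀ a ∈ P, x * a * x⁻¹ ∈ P) {k : ℕ} (hxk : x ^ r ^ k = 1) {g : G}
    (hg : g * y * g⁻¹ ∈ zpowers y ⊔ zpowers z) : g * y * g⁻¹ ∈ zpowers y := by
  haveI := h.fact
  have hxp : IsPGroup r (zpowers x) := by
    rintro ⟨a, i, rfl⟩
    refine ⟨k, Subtype.ext ?_⟩
    show (x ^ i) ^ r ^ k = 1
    rw [← zpow_natCast, ← zpow_mul, mul_comm, zpow_mul, zpow_natCast, hxk, one_zpow]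
  set P1 := P ⊔ zpowers x with hP1d
  have hP1 : IsPGroup r P1 := IsPGroup.to_sup_of_normal_left' L.pgroup hxp
    (zpowers_le.2 (mem_normalizer_of_conj_le hxn))
  have hxz : ¬ Commute x z := fun hc => by
    have h1 := L.max P1 (sup_le L.le (zpowers_le.2 (mem_cent.2 hc))) hP1
    have h2 : P = P1 := eq_of_le_of_card_ge le_sup_left h1
    exact hx (h2 ▸ (mem_sup_right (mem_zpowers x) : x ∈ P1))
  set A := zpowers y ⊔ zpowers z
  have hP1A : P1 ≤ normalizer (A : Set G) := sup_le (fun a ha => mem_normalizer_of_conj_le fun b hb =>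
      h.A_conj L (fun c hc => mul_mem (mul_mem ha hc) (Subgroup.inv_mem _ ha)) hb)
    (zpowers_le.2 (mem_normalizer_of_conj_le fun b hb => h.A_conj L hxn hb))
  have hAP1 : A ≤ P1 := (h.A_le L).trans le_sup_left
  haveI := hP1.isNilpotent
  haveI : (A.subgroupOf P1).Normal := ⟨fun a ha b => (mem_normalizer_iff.1 (hP1A b.2) _).1 ha⟩
  have hne : A.subgroupOf P1 ≠ ⊥ := fun e => by
    have h1 : (⟨z, hAP1 (mem_sup_right (mem_zpowers z))⟩ : P1) ∈ A.subgroupOf P1 :=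
      mem_subgroupOf.2 (mem_sup_right (mem_zpowers z))
    rw [e, mem_bot] at h1
    exact h.z_ne (congrArg Subtype.val h1)
  obtain ⟨⟨e, heP⟩, ⟨heA', heC⟩, he1'⟩ :=
    (bot_or_exists_ne_one _).resolve_left (Cfsg.Agent.Solvable.Basics.inf_center_ne_bot hne)
  have heA : e ∈ A := heA'
  have he1 : e ≠ 1 := fun e1 => he1' (Subtype.ext e1)
  have hxe : Commute x e := congrArg Subtype.val
    (mem_center_iff.1 heC ⟨x, mem_sup_right (mem_zpowers x)⟩)
  have her : e ^ r = 1 := h.A_pow heA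
  have heo : orderOf e = r := orderOf_eq_prime her he1
  have hez : e ∉ zpowers z := fun hm => hxz (by
    have e1 : zpowers e = zpowers z := eq_of_le_of_card_ge (zpowers_le.2 hm)
      (by rw [Nat.card_zpowers, Nat.card_zpowers, heo, h.oz])
    obtain ⟨i, hi⟩ := mem_zpowers_iff.1 (e1.symm ▸ mem_zpowers z : z ∈ zpowers e)
    exact hi ▸ hxe.zpow_right i)
  have hinter : ∀ i : ℤ, z ^ i ∈ zpowers e → z ^ i = 1 := fun i hi => by
    by_contra hne'
    have h1 : zpowers (z ^ i) = zpowers z := eq_of_le_of_card_ge (zpowers_le.2 (zpow_mem (mem_zpowers z) i)) (by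
      rw [Nat.card_zpowers, Nat.card_zpowers, h.oz, orderOf_eq_prime (h.A_pow (mem_sup_right
        (zpow_mem (mem_zpowers z) i))) hne'])
    have h2 : zpowers z = zpowers e := eq_of_le_of_card_ge (h1 ▸ zpowers_le.2 hi)
      (by rw [Nat.card_zpowers, Nat.card_zpowers, heo, h.oz])
    exact hez (h2.symm ▸ mem_zpowers e)
  obtain ⟨a, b, hab⟩ := h.mem_A heA
  have hAe : A ≤ zpowers e ⊔ zpowers z := by
    refine sup_le (zpowers_le.2 ?_) le_sup_right
    have ha : ¬ (r : ℤ) ∣ a := fun hd => hez (by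
      rw [hab, orderOf_dvd_iff_zpow_eq_one.1 (h.oy.symm ▸ hd : ((orderOf y : ℕ) : ℤ) ∣ a), one_mul]
      exact zpow_mem (mem_zpowers z) b)
    obtain ⟨a', c, hac⟩ : IsCoprime a (r : ℤ) :=
      ((Nat.prime_iff_prime_int.1 h.prime).coprime_iff_not_dvd.2 ha).symm
    have hy : y = (e * (z ^ b)⁻¹) ^ a' := by
      rw [hab, mul_inv_cancel_right, ← zpow_mul]
      conv_lhs => rw [← zpow_one y, ← hac]
      rw [zpow_add, mul_comm c, zpow_mul, zpow_mul, zpow_natCast, h.yr, one_zpow, mul_one, mul_comm, zpow_mul]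
    rw [hy]
    exact zpow_mem (mul_mem (mem_sup_left (mem_zpowers e))
      (Subgroup.inv_mem _ (mem_sup_right (zpow_mem (mem_zpowers z) b)))) a'
  have hze : Commute e z := by
    rw [hab]; exact (h.zy.symm.zpow_left a).mul_left ((Commute.refl z).zpow_left b)
  obtain ⟨γ, δ, hxzx⟩ := exists_zpow_mul hze (hAe (h.A_conj L hxn (mem_sup_right (mem_zpowers z))))
  have hpow : ∀ n : ℕ, ∃ c : ℤ, x ^ n * z * (x ^ n)⁻¹ = e ^ c * z ^ δ ^ n := fun n => by
    induction n with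
    | zero => exact ⟨0, by simp⟩
    | succ n ih =>
      obtain ⟨c, hc⟩ := ih
      refine ⟨c + γ * δ ^ n, ?_⟩
      rw [pow_succ', mul_inv_rev, show x * x ^ n * z * ((x ^ n)⁻¹ * x⁻¹) = x * (x ^ n * z * (x ^ n)⁻¹) * x⁻¹ by
        group, hc, show x * (e ^ c * z ^ δ ^ n) * x⁻¹ = (x * e ^ c * x⁻¹) * (x * z ^ δ ^ n * x⁻¹) by group,
        (hxe.zpow_right c).eq, mul_inv_cancel_right, ← conj_zpow, hxzx, (hze.zpow_zpow γ δ).mul_zpow,
        zpow_add, ← zpow_mul, ← zpow_mul, ← mul_assoc, pow_succ' δ]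
  have hδ : z ^ δ = z := by
    obtain ⟨c, hc⟩ := hpow (r ^ k)
    rw [hxk, one_mul, inv_one, mul_one] at hc
    have h1 : z ^ (1 - δ ^ r ^ k) ∈ zpowers e := by
      rw [zpow_sub, zpow_one]
      nth_rewrite 1 [hc]
      rw [mul_inv_cancel_right]
      exact zpow_mem (mem_zpowers e) c
    have h2 := orderOf_dvd_iff_zpow_eq_one.2 (hinter _ h1)
    rw [h.oz, ← ZMod.intCast_zmod_eq_zero_iff_dvd, Int.cast_sub, Int.cast_pow, Int.cast_one, sub_eq_zero,
      ZMod.pow_card_pow] at h2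
    have h3 : (r : ℤ) ∣ δ - 1 := by
      rw [← ZMod.intCast_zmod_eq_zero_iff_dvd, Int.cast_sub, Int.cast_one, sub_eq_zero]
      exact h2.symm
    conv_rhs => rw [← zpow_one z]
    rw [← mul_inv_eq_one, ← zpow_sub]
    exact orderOf_dvd_iff_zpow_eq_one.1 (h.oz.symm ▸ h3)
  rw [hδ] at hxzx
  have hγ : ¬ (r : ℤ) ∣ γ := fun hd => hxz (by
    rw [orderOf_dvd_iff_zpow_eq_one.1 (heo.symm ▸ hd : ((orderOf e : ℕ) : ℤ) ∣ γ), one_mul] at hxzx
    exact mul_inv_eq_iff_eq_mul.1 hxzx)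
  have hn : ∀ n : ℕ, x ^ n * z * (x ^ n)⁻¹ = e ^ (n * γ) * z := fun n => by
    induction n with
    | zero => simp
    | succ n ih =>
      rw [pow_succ', mul_inv_rev, show x * x ^ n * z * ((x ^ n)⁻¹ * x⁻¹) = x * (x ^ n * z * (x ^ n)⁻¹) * x⁻¹ by
        group, ih, show x * (e ^ ((n : ℤ) * γ) * z) * x⁻¹ = (x * e ^ ((n : ℤ) * γ) * x⁻¹) * (x * z * x⁻¹) by group,
        (hxe.zpow_right _).eq, mul_inv_cancel_right, hxzx, ← mul_assoc, ← zpow_add]
      congr 2
      push_cast; ring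
  -- conjugates of `y` are powers of `e`
  have key : ∀ g : G, g * y * g⁻¹ ∈ A → g * y * g⁻¹ ∈ zpowers e := fun g hg => by
    obtain ⟨α, β, hαβ⟩ := exists_zpow_mul hze (hAe hg)
    by_cases hβ : (r : ℤ) ∣ β
    · rw [hαβ, orderOf_dvd_iff_zpow_eq_one.1 (h.oz.symm ▸ hβ : ((orderOf z : ℕ) : ℤ) ∣ β), mul_one]
      exact zpow_mem (mem_zpowers e) α
    exfalso
    set n := ((α : ZMod r) / ((γ : ZMod r) * β)).val
    have hn2 : e ^ ((n : ℤ) * γ * β) = e ^ α := by
      rw [← mul_inv_eq_one, ← zpow_sub]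
      refine orderOf_dvd_iff_zpow_eq_one.1 ?_
      rw [heo, ← ZMod.intCast_zmod_eq_zero_iff_dvd, Int.cast_sub, Int.cast_mul, Int.cast_mul, Int.cast_natCast,
        ZMod.natCast_zmod_val, mul_assoc, div_mul_cancel₀, sub_self]
      exact mul_ne_zero (fun e => hγ ((ZMod.intCast_zmod_eq_zero_iff_dvd γ r).1 e))
        (fun e => hβ ((ZMod.intCast_zmod_eq_zero_iff_dvd β r).1 e))
    have hconj : x ^ n * z ^ β * (x ^ n)⁻¹ = g * y * g⁻¹ := by
      rw [← conj_zpow, hn, (hze.zpow_left _).mul_zpow, ← zpow_mul, hn2, hαβ]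
    obtain ⟨β', c, hc⟩ : IsCoprime β (r : ℤ) :=
      ((Nat.prime_iff_prime_int.1 h.prime).coprime_iff_not_dvd.2 hβ).symm
    have hz' : z = (z ^ β) ^ β' := by
      conv_lhs => rw [← zpow_one z, ← hc]
      rw [zpow_add, mul_comm c, zpow_mul, zpow_mul, zpow_natCast, h.zr, one_zpow, mul_one, ← zpow_mul, ← zpow_mul, mul_comm]
    refine h.nzy (g⁻¹ * x ^ n) ?_
    rw [hz', ← conj_zpow, show g⁻¹ * x ^ n * z ^ β * (g⁻¹ * x ^ n)⁻¹ = g⁻¹ * (x ^ n * z ^ β * (x ^ n)⁻¹) * g by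
      group, hconj, show g⁻¹ * (g * y * g⁻¹) * g = y by group]
    exact zpow_mem (mem_zpowers y) β'
  have hye : zpowers y = zpowers e := eq_of_le_of_card_ge
    (zpowers_le.2 (by
      have := key 1 (by rw [one_mul, inv_one, mul_one]; exact mem_sup_left (mem_zpowers y))
      rwa [one_mul, inv_one, mul_one] at this))
    (by rw [Nat.card_zpowers, Nat.card_zpowers, heo, h.oy])
  exact hye ▸ key g hg

/-- Fusion when `P` is a Sylow subgroup. -/
theorem fusion_of_sylow {P : Sylow r G} (L : Local r (P : Subgroup G) z y s) {g : G}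
    (hg : g * y * g⁻¹ ∈ zpowers y ⊔ zpowers z) : g * y * g⁻¹ ∈ zpowers y := by
  classical
  haveI := h.fact
  set A := zpowers y ⊔ zpowers z with hAdef
  have hcent : ∀ a ∈ A, a ∈ centralizer ((P : Subgroup G) : Set G) := fun a ha => by
    refine mem_centralizer_iff.2 fun p hp => ?_
    obtain ⟨i, j, rfl⟩ := h.mem_A ha
    exact (((L.central p hp).zpow_right i).mul_right ((mem_cent.1 (L.le hp)).zpow_right j)).eq
  obtain ⟨n, hn, hgn⟩ := Sylow.conj_eq_normalizer_conj_of_mem_centralizer P y g⁻¹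
    (hcent y (mem_sup_left (mem_zpowers y))) (by rw [inv_inv]; exact hcent _ hg)
  rw [inv_inv] at hgn
  set N := normalizer ((P : Subgroup G) : Set G) with hNdef
  have hNA : N ≤ normalizer (A : Set G) := fun m hm => mem_normalizer_of_conj_le fun a ha =>
    h.A_conj L (fun p hp => (mem_normalizer_iff.1 hm p).1 hp) ha
  let ρ : ↥N →* MulAut ↥A := A.normalizerMonoidHom.comp (Subgroup.inclusion hNA)
  have hρ : ∀ (m : ↥N) (a : ↥A), ((ρ m a : ↥A) : G) = (m : G) * a * (m : G)⁻¹ := fun m a => rfl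
  have hyA : y ∈ A := mem_sup_left (mem_zpowers y)
  have hzA : z ∈ A := mem_sup_right (mem_zpowers z)
  have hext : ∀ m m' : ↥N, (m : G) * y * (m : G)⁻¹ = (m' : G) * y * (m' : G)⁻¹ →
      (m : G) * z * (m : G)⁻¹ = (m' : G) * z * (m' : G)⁻¹ → ρ m = ρ m' := fun m m' e1 e2 => by
    refine MulEquiv.ext fun a => Subtype.ext ?_
    obtain ⟨i, j, hij⟩ := h.mem_A a.2
    have e : ∀ k : G, k * (y ^ i * z ^ j) * k⁻¹ = (k * y * k⁻¹) ^ i * (k * z * k⁻¹) ^ j := fun k => by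
      rw [conj_zpow, conj_zpow]; group
    rw [hρ, hρ, hij, e, e, e1, e2]
  have hsN : s ∈ N := mem_normalizer_of_conj_le L.sP
  let s' : ↥N := ⟨s, hsN⟩
  let d' : ↥N := s' * s'
  have hd'c : (d' : G) = s * s := rfl
  -- elements commuting with `ρ d'`
  have hcd : ∀ m : ↥N, ρ d' * ρ m = ρ m * ρ d' →
      Commute (m : G) z ∧ (m : G) * y * (m : G)⁻¹ ∈ zpowers y := fun m hm => by
    have e : ∀ a, (ha : a ∈ A) → s * s * ((m : G) * a * (m : G)⁻¹) * (s * s)⁻¹ =
        (m : G) * (s * s * a * (s * s)⁻¹) * (m : G)⁻¹ := fun a ha =>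
      congrArg Subtype.val (DFunLike.congr_fun hm (⟨a, ha⟩ : ↥A))
    have hmA : ∀ a ∈ A, (m : G) * a * (m : G)⁻¹ ∈ A := fun a ha => (mem_normalizer_iff.1 (hNA m.2) a).1 ha
    refine ⟨h.nz _ (h.A_fixed (hmA z hzA) ?_), h.A_inverted (hmA y hyA) ?_⟩
    · rw [e z hzA, h.zd.symm.eq, mul_inv_cancel_right]
    · rw [e y hyA, h.dy, conj_inv]
  have habel : ∀ m m' : ↥N, ρ d' * ρ m = ρ m * ρ d' → ρ d' * ρ m' = ρ m' * ρ d' →
      ρ m * ρ m' = ρ m' * ρ m := fun m m' hm hm' => by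
    rw [← map_mul, ← map_mul]
    obtain ⟨c1, i, hi⟩ := hcd m hm
    obtain ⟨c2, j, hj⟩ := hcd m' hm'
    refine hext _ _ ?_ ?_
    · have hi' : (m : G) * y * (m : G)⁻¹ = y ^ i := hi.symm
      have hj' : (m' : G) * y * (m' : G)⁻¹ = y ^ j := hj.symm
      calc ((m * m' : ↥N) : G) * y * ((m * m' : ↥N) : G)⁻¹
          = (m : G) * ((m' : G) * y * (m' : G)⁻¹) * (m : G)⁻¹ := by rw [Subgroup.coe_mul]; group
        _ = y ^ (i * j) := by rw [hj', ← conj_zpow, hi', zpow_mul]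
        _ = (m' : G) * ((m : G) * y * (m : G)⁻¹) * (m' : G)⁻¹ := by rw [hi', ← conj_zpow, hj', ← zpow_mul, mul_comm]
        _ = _ := by rw [Subgroup.coe_mul]; group
    · rw [Subgroup.coe_mul, Subgroup.coe_mul, (c1.mul_left c2).eq, mul_inv_cancel_right, (c2.mul_left c1).eq,
        mul_inv_cancel_right]
  -- the image
  set H := ρ.range with hH
  have hHr : ¬ r ∣ Nat.card H := fun hd => by
    have h1 : (P : Subgroup G).subgroupOf N ≤ ρ.ker := fun p hp => MonoidHom.mem_ker.2 (by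
      rw [← map_one ρ]
      exact hext p 1 (by
        have c1 : Commute (p : G) y := L.central _ hp
        rw [c1.eq, mul_inv_cancel_right]; simp)
        (by
        have c1 : Commute (p : G) z := mem_cent.1 (L.le hp)
        rw [c1.eq, mul_inv_cancel_right]; simp))
    refine P.not_dvd_index (hd.trans ?_)
    rw [hH, ← Subgroup.index_ker]
    refine (Subgroup.index_dvd_of_le h1).trans ?_
    exact Dvd.intro _ (Subgroup.relIndex_mul_index le_normalizer)
  have hd1 : ρ d' ≠ 1 := fun e => by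
    have h1 : s * s * y * (s * s)⁻¹ = y := congrArg Subtype.val (DFunLike.congr_fun e (⟨y, hyA⟩ : ↥A))
    exact h.two_ne h.oy (h.dy.symm.trans h1)
  have hd2 : ρ d' * ρ d' = 1 := by rw [← map_mul, show d' * d' = 1 from Subtype.ext h.dd, map_one]
  -- two-elements commuting with `ρ d'`
  have htwo : ∀ m : ↥N, ρ d' * ρ m = ρ m * ρ d' → ∀ a : ℕ, ρ m ^ 2 ^ a = 1 →
      ρ m ∈ zpowers (ρ s') := fun m hm a ha => by
    obtain ⟨a', o, A', B', ho, hoe, hmd⟩ := Cfsg.Agent.Fusion.Elementwise.exists_bezout (p := 2) m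
    set m' := (m ^ o) ^ B' with hm'
    have h1 : ρ (m ^ 2 ^ a') = 1 := by
      rw [← orderOf_eq_one_iff]
      refine Nat.eq_one_of_dvd_coprimes ((Nat.prime_two.coprime_iff_not_dvd.2 ho).pow_left a) ?_ ?_
      · refine orderOf_dvd_of_pow_eq_one ?_
        rw [map_pow, ← pow_mul, mul_comm, pow_mul, ha, one_pow]
      · refine orderOf_dvd_of_pow_eq_one ?_
        rw [← map_pow, ← pow_mul, ← hoe, pow_orderOf_eq_one, map_one]
    have h2 : ρ m' = ρ m := by
      conv_rhs => rw [hmd]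
      rw [map_mul, map_zpow ρ (m ^ 2 ^ a'), h1, one_zpow, one_mul]
    have hm'2 : m' ^ 2 ^ a' = 1 := by
      rw [hm', ← zpow_natCast, ← zpow_mul, mul_comm, zpow_mul, zpow_natCast, ← pow_mul, mul_comm o, ← hoe,
        pow_orderOf_eq_one, one_zpow]
    obtain ⟨c1, c2⟩ := hcd m' (h2.symm ▸ hm)
    have hU : (m' : G) ∈ U := h.two _ a' c1 (by
      simpa using congrArg Subtype.val hm'2)
    obtain ⟨n', hn'⟩ := h.auto _ hU a' (by simpa using congrArg Subtype.val hm'2) c2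
    have hsn : ∀ n : ℕ, s ^ n * y * (s ^ n)⁻¹ = y ^ μ ^ n := fun n => by
      induction n with
      | zero => simp
      | succ n ih =>
        rw [pow_succ', mul_inv_rev, show s * s ^ n * y * ((s ^ n)⁻¹ * s⁻¹) = s * (s ^ n * y * (s ^ n)⁻¹) * s⁻¹ by
          group, ih, ← conj_pow, h.sy, ← pow_mul, pow_succ']
    have h3 : ρ (s' ^ n') = ρ m' := hext _ _ (by
        rw [Subgroup.coe_pow]
        exact (hsn n').trans hn'.symm) (by
        rw [Subgroup.coe_pow, (c1 : Commute (m' : G) z).eq, mul_inv_cancel_right,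
          ((h.zs.symm : Commute s z).pow_left n').eq, mul_inv_cancel_right])
    rw [← h2, ← h3, map_pow]
    exact pow_mem (mem_zpowers _) n'
  let sH : ↥H := ⟨ρ s', s', rfl⟩
  let dH : ↥H := sH * sH
  have hdH : (dH : MulAut ↥A) = ρ d' := (map_mul ρ s' s').symm
  have hdH2 : dH * dH = 1 := Subtype.ext (by rw [Subgroup.coe_mul, hdH]; exact hd2)
  have hs4 : sH ^ 2 ^ 2 = 1 := by
    rw [show sH ^ 2 ^ 2 = dH * dH by simp [dH, pow_succ, mul_assoc]]; exact hdH2
  have hnorm : ∀ x : ↥H, x * sH * x⁻¹ ∈ zpowers sH → x * dH = dH * x := fun x hx => by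
    obtain ⟨i, hi⟩ := mem_zpowers_iff.1 hx
    have h1 : x * dH * x⁻¹ ∈ zpowers dH := by
      refine ⟨i, ?_⟩
      show (sH * sH) ^ i = x * (sH * sH) * x⁻¹
      rw [(Commute.refl sH).mul_zpow, hi]; group
    rcases mem_zpowers_d hdH2 h1 with e | e
    · exfalso
      have h2 : dH = 1 := by
        rw [mul_inv_eq_one, mul_eq_left] at e; exact e
      exact hd1 (hdH ▸ congrArg Subtype.val h2)
    · exact mul_inv_eq_iff_eq_mul.1 e
  have hcom : ∀ x : ↥H, x * dH = dH * x → ∃ m : ↥N, (x : MulAut ↥A) = ρ m ∧ ρ d' * ρ m = ρ m * ρ d' := by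
    rintro ⟨_, m, rfl⟩ hx
    exact ⟨m, rfl, hdH ▸ (congrArg Subtype.val hx).symm⟩
  obtain ⟨S2, hS2⟩ := (show IsPGroup 2 (zpowers sH) by
    rintro ⟨x, i, rfl⟩
    refine ⟨2, Subtype.ext ?_⟩
    show (sH ^ i) ^ 2 ^ 2 = 1
    rw [← zpow_natCast, ← zpow_mul, mul_comm, zpow_mul, zpow_natCast, hs4, one_zpow]).exists_le_sylow
  have hS2e : (S2 : Subgroup ↥H) = zpowers sH := by
    by_contra hne
    obtain ⟨x, hxS, hxn, hxnorm⟩ := exists_normalizing S2.2 (lt_of_le_of_ne hS2 (Ne.symm hne))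
    obtain ⟨m, hm, hmc⟩ := hcom x (hnorm x (hxnorm sH (mem_zpowers sH)))
    obtain ⟨a, ha⟩ := S2.2 ⟨x, hxS⟩
    have ha' : ρ m ^ 2 ^ a = 1 := by
      rw [← hm]
      have h5 := congrArg (fun t : ↥(S2 : Subgroup ↥H) => ((t : ↥H) : MulAut ↥A)) ha
      simpa using h5
    obtain ⟨i, hi⟩ := htwo m hmc a ha'
    exact hxn ⟨i, Subtype.ext (by simpa [hm] using hi)⟩
  have hNC : normalizer ((S2 : Subgroup ↥H) : Set ↥H) ≤ centralizer ((S2 : Subgroup ↥H) : Set ↥H) := by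
    intro x hx
    have h1 := (mem_normalizer_iff.1 hx sH).1 (hS2 (mem_zpowers sH))
    rw [hS2e] at h1
    obtain ⟨m, hm, hmc⟩ := hcom x (hnorm x h1)
    have h2 : Commute x sH := Subtype.ext (by
      rw [Subgroup.coe_mul, Subgroup.coe_mul, hm]
      exact habel m s' hmc (by rw [← map_mul, ← map_mul]; exact congrArg ρ (Subtype.ext (by
        show s * s * s = s * (s * s)
        rw [mul_assoc]))))
    refine mem_centralizer_iff.2 fun b hb => ?_
    rw [hS2e] at hb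
    obtain ⟨i, rfl⟩ := hb
    exact ((h2.zpow_right i).eq).symm
  set K := (MonoidHom.transferSylow S2 hNC).ker with hK
  have hKc := MonoidHom.ker_transferSylow_isComplement' S2 hNC
  letI : CommGroup ↥A :=
    { (inferInstance : Group ↥A) with
      mul_comm := fun a b => Subtype.ext (by
        obtain ⟨i, j, hij⟩ := h.mem_A b.2
        obtain ⟨i', j', hij'⟩ := h.mem_A a.2
        show (a : G) * b = b * a
        rw [hij, hij']
        exact (((Commute.refl y).zpow_zpow i' i).mul_left (h.zy.zpow_zpow j' i)).mul_right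
          ((h.zy.symm.zpow_zpow i' j).mul_left ((Commute.refl z).zpow_zpow j' j))) }
  have hV : ∀ v : ↥A, v ^ r = 1 := fun v => Subtype.ext (by
    show (v : G) ^ r = 1
    exact h.A_pow v.2)
  have hfixz : ∀ v : ↥A, ρ d' v = v → (v : G) ∈ zpowers z := fun v hv =>
    h.A_fixed v.2 (congrArg Subtype.val hv)
  have hKle : K.map H.subtype ≤ H := map_subtype_le _
  have hsd : ∀ v : ↥A, ρ d' v = v → ρ s' v = v := fun v hv => Subtype.ext (by
    obtain ⟨i, hi⟩ := hfixz v hv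
    show s * (v : G) * s⁻¹ = v
    rw [← hi, (h.zs.symm.zpow_right i).eq, mul_inv_cancel_right])
  have hkill : ∀ k ∈ K.map H.subtype, ρ d' * k = k * ρ d' := by
    refine linear_kill hV h.ne_two hd2 (map_mul ρ s' s').symm hsd ?_ ?_ ?_ ?_
    · rw [Subgroup.card_map_of_injective H.subtype_injective]
      exact Nat.odd_iff.2 (Nat.two_dvd_ne_zero.1 (MonoidHom.not_dvd_card_ker_transferSylow S2 hNC))
    · rintro _ ⟨k, hk, rfl⟩
      exact ⟨sH * k * sH⁻¹, (inferInstance : K.Normal).conj_mem k hk sH, rfl⟩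
    · intro M hMK _ hMp
      obtain ⟨j, hj⟩ := IsPGroup.iff_card.1 hMp
      rcases j with _ | j
      · exact eq_bot_of_card_eq M (by rw [hj, pow_zero])
      · exact absurd (((dvd_pow_self r j.succ_ne_zero).trans (hj ▸ dvd_rfl)).trans
          (card_dvd_of_le (hMK.trans hKle))) hHr
    · rintro _ ⟨⟨_, m, rfl⟩, hk, rfl⟩ hc v hv
      obtain ⟨i, hi⟩ := hfixz v hv
      refine Subtype.ext ?_
      show (m : G) * (v : G) * (m : G)⁻¹ = v
      rw [← hi, ((hcd m hc).1.zpow_right i).eq, mul_inv_cancel_right]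
  have hall : ∀ m : ↥N, ρ d' * ρ m = ρ m * ρ d' := fun m => by
    have h1 : K ⊔ (S2 : Subgroup ↥H) ≤ centralizer ({dH} : Set ↥H) := by
      refine sup_le (fun k hk => mem_cent.2 (Subtype.ext ?_)) ?_
      · show (k : MulAut ↥A) * (dH : MulAut ↥A) = (dH : MulAut ↥A) * k
        rw [hdH]
        exact (hkill _ (mem_map_of_mem _ hk)).symm
      · rw [hS2e]
        exact zpowers_le.2 (mem_cent.2 (show sH * (sH * sH) = sH * sH * sH by rw [mul_assoc]))
    rw [hKc.sup_eq_top] at h1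
    have h2 := congrArg Subtype.val (mem_cent.1 (h1 (mem_top (⟨ρ m, m, rfl⟩ : ↥H)))).eq
    have h4 : ρ m * (dH : MulAut ↥A) = (dH : MulAut ↥A) * ρ m := h2
    rw [hdH] at h4
    exact h4.symm
  rw [hgn]
  have h3 := (hcd ⟨n⁻¹, Subgroup.inv_mem _ hn⟩ (hall _)).2
  simpa using h3

/-- A conjugate of `y` in `⟨y, z⟩` is a power of `y`. -/
theorem fusion {P : Subgroup G} (L : Local r P z y s) {g : G} (hg : g * y * g⁻¹ ∈ zpowers y ⊔ zpowers z) :
    g * y * g⁻¹ ∈ zpowers y := by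
  haveI := h.fact
  obtain ⟨S, hS⟩ := L.pgroup.exists_le_sylow
  rcases hS.lt_or_eq with hlt | he
  · obtain ⟨x, hxS, hxP, hxn⟩ := exists_normalizing S.2 hlt
    obtain ⟨k, hk⟩ := S.2 ⟨x, hxS⟩
    exact h.fusion_of_normalizing L hxP hxn (k := k) (by simpa using congrArg Subtype.val hk) hg
  · exact h.fusion_of_sylow (P := S) (he ▸ L) hg

/-- A conjugate of `y` in `C(z)` is conjugate in `C(z)` to a power of `y`. -/
theorem local_fusion {g : G} (hg : Commute (g * y * g⁻¹) z) :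
    ∃ c : G, Commute c z ∧ c⁻¹ * (g * y * g⁻¹) * c ∈ zpowers y := by
  haveI := h.fact
  obtain ⟨P, L⟩ := h.exists_local
  obtain ⟨c, hc, hcu⟩ := exists_conj_mem L.le L.pgroup L.max (mem_cent.2 hg)
    (by rw [conj_pow, h.yr, mul_one, mul_inv_cancel])
  refine ⟨c⁻¹, (mem_cent.1 hc).inv_left, ?_⟩
  rw [inv_inv]
  have hr' : (c * (g * y * g⁻¹) * c⁻¹) ^ r = 1 := by
    rw [conj_pow, conj_pow, h.yr, mul_one, mul_inv_cancel, mul_one, mul_inv_cancel]
  have e : c * (g * y * g⁻¹) * c⁻¹ = c * g * y * (c * g)⁻¹ := by group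
  rw [e]
  exact h.fusion L (e ▸ L.omega _ hcu hr')

end KillData

end Cfsg.Agent.OddTranspX.Kill
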