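import Cfsg.Agent.S0205
import Cfsg.Agent.Lib.Coprime.Commutator
import Cfsg.Agent.Lib.Walter.Core.Tools

/-!
# An automorphism of order four whose square fixes only vectors fixed by it

`V` has prime exponent `r`, `K` is an odd group of automorphisms without normal `r`-subgroup, `s` normalizes
`K`, `d = s * s` has order two, `s` fixes what `d` fixes, and so does every element of `K` commuting with `d`.
Then `d` centralizes `K`.
-/

set_option autoImplicit false
set_option linter.unusedSectionVars false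
set_option linter.style.haveILetI false

open Subgroup
open scoped commutatorElement

namespace Cfsg.Agent.OddTranspX.Kill

open Cfsg.Agent.Walter.Core (mem_of_sq)

variable {V : Type*} [CommGroup V]

theorem inv_app (f : MulAut V) (v : V) : f⁻¹ (f v) = v := MulEquiv.symm_apply_apply f v

theorem app_inv (f : MulAut V) (v : V) : f (f⁻¹ v) = v := MulEquiv.apply_symm_apply f v

theorem pow_fix {x : MulAut V} {v : V} (h : x v = v) : ∀ n : ℕ, (x ^ n) v = v
  | 0 => by simp
  | n + 1 => by rw [pow_succ, MulAut.mul_apply, h, pow_fix h n]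

/-- An automorphism of odd order fixes what its square fixes. -/
theorem fix_of_sq {x : MulAut V} (ho : Odd (orderOf x)) {v : V} (h : x (x v) = v) : x v = v := by
  obtain ⟨m, hm⟩ := ho
  have h2 : (x * x) v = v := by rw [MulAut.mul_apply, h]
  have : x = (x * x) ^ (m + 1) := by
    rw [← pow_two, ← pow_mul, show 2 * (m + 1) = orderOf x + 1 by omega, pow_succ, pow_orderOf_eq_one, one_mul]
  conv_lhs => rw [this]
  exact pow_fix h2 _

variable {r : ℕ} [hr : Fact r.Prime]

theorem exp_eq_one (hV : ∀ v : V, v ^ r = 1) {n : ℕ} (hn : ¬ r ∣ n) {v : V}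
    (h : v ^ n = 1) : v = 1 := by
  rw [← orderOf_eq_one_iff]
  rcases (Nat.dvd_prime hr.out).1 (orderOf_dvd_of_pow_eq_one (hV v)) with e | e
  · exact e
  · exact absurd (e ▸ orderOf_dvd_of_pow_eq_one h) hn

/-- A unipotent automorphism of order prime to `r` is trivial on what it moves along fixed vectors. -/
theorem eq_one_of_translate (hV : ∀ v : V, v ^ r = 1) {x : MulAut V} (hx : ¬ r ∣ orderOf x) {v t : V}
    (ht : x t = t) (h : x v = t * v) : t = 1 := by
  have key : ∀ n : ℕ, (x ^ n) v = t ^ n * v := fun n => by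
    induction n with
    | zero => simp
    | succ n ih => rw [pow_succ', MulAut.mul_apply, ih, map_mul, map_pow, ht, h, ← mul_assoc, ← pow_succ]
  refine exp_eq_one hV hx ?_
  have := key (orderOf x)
  rw [pow_orderOf_eq_one, MulAut.one_apply] at this
  exact mul_eq_right.1 this.symm

variable [Finite V] (hV : ∀ v : V, v ^ r = 1) (hodd : r ≠ 2) {d : MulAut V} (hd : d * d = 1)

include hV hodd hd

/-- An inverted abelian group of order prime to `2 r`, invariant under `s`, is trivial. -/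
theorem inverted_trivial {s : MulAut V} (hs : s * s = d) (hsd : ∀ v, d v = v → s v = v)
    {B : Subgroup (MulAut V)}
    (hB : ∀ x ∈ B, d * x * d⁻¹ = x⁻¹) (hsB : ∀ x ∈ B, s * x * s⁻¹ ∈ B)
    (hord : ∀ x ∈ B, Odd (orderOf x) ∧ ¬ r ∣ orderOf x) : B = ⊥ := by
  have hdd : ∀ u, d (d u) = u := fun u => by rw [← MulAut.mul_apply, hd, MulAut.one_apply]
  have hdx : ∀ x ∈ B, ∀ v, d (x v) = x⁻¹ (d v) := fun x hx v => by
    rw [← hB x hx, MulAut.mul_apply, MulAut.mul_apply, inv_app]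
  have hcomm : ∀ a ∈ B, ∀ b ∈ B, ∀ v, a (b v) = b (a v) := fun a ha b hb v => by
    have h1 : d * (a * b) * d⁻¹ = a⁻¹ * b⁻¹ := by rw [← hB a ha, ← hB b hb]; group
    rw [hB _ (mul_mem ha hb), mul_inv_rev] at h1
    have h2 : a * b = b * a := by rw [← inv_inj, mul_inv_rev, mul_inv_rev, h1]
    rw [← MulAut.mul_apply, h2, MulAut.mul_apply]
  -- the fixed vectors of `d` are fixed by `B`
  have h0 : ∀ p0, d p0 = p0 → ∀ x ∈ B, x p0 = p0 := by
    intro v hv
    have hsx : ∀ x : MulAut V, s (x v) = (s * x * s⁻¹) v := fun x => by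
      rw [MulAut.mul_apply, MulAut.mul_apply, show s⁻¹ v = v from (by
        conv_lhs => rw [← hsd v hv]
        rw [inv_app])]
    have e1 : ∀ x ∈ B, (s * x * s⁻¹) v * (s * x * s⁻¹)⁻¹ v = x v * x⁻¹ v := fun x hx => by
      rw [show (s * x * s⁻¹)⁻¹ = s * x⁻¹ * s⁻¹ by group, ← hsx, ← hsx, ← map_mul]
      refine hsd _ ?_
      rw [map_mul, hdx x hx, hdx x⁻¹ (inv_mem hx), hv, inv_inv, mul_comm]
    -- `x * x'` fixes `a v / v`, `a = x⁻¹ x'`
    have e2 : ∀ x ∈ B, (x * (s * x * s⁻¹)) ((x⁻¹ * (s * x * s⁻¹)) v / v) = (x⁻¹ * (s * x * s⁻¹)) v / v := by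
      intro x hx
      have h1 := e1 x hx
      have hx0 : s * x * s⁻¹ ∈ B := hsB x hx
      generalize s * x * s⁻¹ = x' at h1 hx0 ⊢
      have hx' : x' ∈ B := hx0
      have e' : x'⁻¹ v = x v * x⁻¹ v / x' v := eq_div_iff_mul_eq'.2 (by rw [mul_comm, h1])
      have h3 : x' v / x v = x⁻¹ v / x'⁻¹ v := by
        rw [e', div_div_eq_mul_div, mul_comm (x⁻¹ v), mul_div_mul_right_eq_div]
      have h4 : x ((x⁻¹ * x') v / v) = x' v / x v := by rw [map_div, MulAut.mul_apply, app_inv]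
      rw [MulAut.mul_apply, hcomm x hx x' hx', h4, h3, map_div, app_inv, MulAut.mul_apply, ← hcomm x' hx' x⁻¹ (inv_mem hx)]
    -- substitution of `a` gives that every element fixes the moves of its conjugate
    have e3 : ∀ x ∈ B, x ((s * x * s⁻¹) v / v) = (s * x * s⁻¹) v / v := by
      intro y hy
      obtain ⟨l, hl⟩ := (hord y hy).1
      set x := y ^ (l + 1) with hxdef
      have hx : x ∈ B := pow_mem hy _
      have hxy : x * x = y := by
        rw [hxdef, ← pow_add, show l + 1 + (l + 1) = orderOf y + 1 by omega, pow_succ, pow_orderOf_eq_one, one_mul]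
      rw [← hxy]
      set x' := s * x * s⁻¹ with hx'def
      have hx' : x' ∈ B := hsB x hx
      have hss : s * x' * s⁻¹ = x⁻¹ := by
        rw [← hB x hx, hx'def, ← hs]; group
      have hc : x * x' = x' * x := MulEquiv.ext fun u => hcomm x hx x' hx' u
      have ha' : s * (x⁻¹ * x') * s⁻¹ = x'⁻¹ * x⁻¹ := by
        rw [show s * (x⁻¹ * x') * s⁻¹ = (s * x * s⁻¹)⁻¹ * (s * x' * s⁻¹) by group, hss]
      have h1 := e2 (x⁻¹ * x') (mul_mem (inv_mem hx) hx')
      rw [ha'] at h1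
      clear ha'
      have hsxx : s * (x * x) * s⁻¹ = x' * x' := by rw [hx'def]; group
      clear_value x'
      have i1 : x⁻¹ * x' * (x'⁻¹ * x⁻¹) = (x * x)⁻¹ := by group
      have i2 : (x⁻¹ * x')⁻¹ * (x'⁻¹ * x⁻¹) = (x' * x')⁻¹ := by
        have hc2 : x * x'⁻¹ = x'⁻¹ * x := (show Commute x x' from hc).inv_right.eq
        rw [mul_inv_rev, inv_inv, mul_inv_rev, mul_assoc, ← mul_assoc x, hc2, mul_assoc, mul_inv_cancel, mul_one]
      rw [i1, i2] at h1
      rw [hsxx]
      -- `x x` fixes the move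
      have h3 := congrArg (fun u => (x * x) u) h1
      simp only [app_inv] at h3
      have h4 : (x' * x') ((x' * x')⁻¹ v / v) = v / (x' * x') v := by rw [map_div, app_inv]
      have h5 : (x * x) ((x' * x') ((x' * x')⁻¹ v / v)) = (x' * x') ((x' * x')⁻¹ v / v) := by
        rw [hcomm _ (mul_mem hx hx) _ (mul_mem hx' hx'), ← h3]
      rw [h4, map_div] at h5
      rw [map_div, ← inv_div, h5, inv_div]
    intro x hx
    set x' := s * x * s⁻¹ with hx'def
    have hx' : x' ∈ B := hsB x hx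
    have hss : s * x' * s⁻¹ = x⁻¹ := by rw [← hB x hx, hx'def, ← hs]; group
    set p := x v / v with hp
    set p' := x' v / v with hp'
    have f1 : x p' = p' := e3 x hx
    have h1 := e2 x hx
    rw [← hx'def] at h1
    have f2 : x' p = p := by
      have h1 := e3 x' hx'
      rw [hss] at h1
      have e' : x⁻¹ v / v = (x⁻¹ p)⁻¹ := by rw [hp, map_div, inv_app, inv_div]
      rw [e', map_inv, inv_inj] at h1
      have := congrArg x h1
      rw [← hcomm x' hx' x hx, app_inv] at this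
      exact this
    clear_value x'
    have f3 : (x⁻¹ * x') v / v = p' / x⁻¹ p := by
      have g1 : x⁻¹ p' = p' := by conv_lhs => rw [← f1, inv_app]
      have g2 : x' v = p' * v := (div_mul_cancel _ _).symm
      have g3 : x⁻¹ p = v / x⁻¹ v := by rw [hp, map_div, inv_app]
      rw [MulAut.mul_apply, g2, map_mul, g1, g3, div_div_eq_mul_div]
    rw [f3, map_div, MulAut.mul_apply, MulAut.mul_apply, hcomm x hx x' hx', hcomm x hx x' hx',
      f1, app_inv, f2] at h1
    -- `x p / p` is fixed by `x`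
    have h4 : x' p' / p' = p / x⁻¹ p := by
      rw [div_eq_div_iff_mul_eq_mul] at h1 ⊢
      rw [mul_comm p p', ← h1]
    have h5 : x (p / x⁻¹ p) = p / x⁻¹ p := by
      rw [← h4, map_div, hcomm x hx x' hx', f1]
    have h5' : x (p / x⁻¹ p) = x p / p := by rw [map_div, app_inv]
    have h6 : x (x p / p) = x p / p := by
      rw [show x p / p = p / x⁻¹ p from h5'.symm.trans h5, h5]
    have h7 : x p / p = 1 := eq_one_of_translate hV (hord x hx).2 (v := p) h6 (div_mul_cancel _ _).symm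
    have h8 : x p = p := div_eq_one.1 h7
    have h9 : p = 1 := eq_one_of_translate hV (hord x hx).2 (v := v) h8 (div_mul_cancel _ _).symm
    exact div_eq_one.1 h9
  refine (eq_bot_iff_forall B).2 fun x hx => MulEquiv.ext fun v => ?_
  rw [MulAut.one_apply]
  have h1 : x (v * d v) = v * d v := h0 _ (by rw [map_mul, hdd, mul_comm]) x hx
  set u := v / d v with hu
  have hdu : d u = u⁻¹ := by rw [hu, map_div, hdd, inv_div]
  have h2 : x u = u := by
    refine fix_of_sq (hord x hx).1 ?_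
    set w := x⁻¹ u with hw
    set t := x u * w⁻¹ with ht
    have htd : d t = t := by
      rw [ht, hw, map_mul, map_inv, hdx x hx, hdx x⁻¹ (inv_mem hx), hdu, inv_inv, map_inv, map_inv, inv_inv,
        mul_comm]
    have hxt : x t = t := h0 t htd x hx
    have hxw : x w = u := by rw [hw, app_inv]
    have hxx : (x * x) w = t * w := by rw [MulAut.mul_apply, hxw, ht, inv_mul_cancel_right]
    have hx2 : ¬ r ∣ orderOf (x * x) := fun h => (hord x hx).2 (h.trans (orderOf_dvd_of_pow_eq_one (by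
      rw [← pow_two, ← pow_mul, mul_comm, pow_mul, pow_orderOf_eq_one, one_pow])))
    have ht1 := eq_one_of_translate hV hx2 (by rw [MulAut.mul_apply, hxt, hxt]) hxx
    have hxw' : x u = w := mul_inv_eq_one.1 ht1
    rw [hxw', hxw]
  have h3 : x (v * v) = v * v := by
    rw [show v * v = (v * d v) * u by rw [hu, mul_assoc, mul_div_cancel, ], map_mul, h1, h2]
  refine mul_inv_eq_one.1 (exp_eq_one hV (n := 2) (fun h => hodd ((Nat.prime_dvd_prime_iff_eq hr.out Nat.prime_two).1 h)) ?_)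
  rw [pow_two, mul_mul_mul_comm, ← mul_inv_rev, ← map_mul, h3, mul_inv_cancel]

/-- The automorphism `d = s ^ 2` centralizes `K`. -/
theorem linear_kill {s : MulAut V} (hs : s * s = d) (hsd : ∀ v, d v = v → s v = v) {K : Subgroup (MulAut V)}
    (hK : Odd (Nat.card ↥K)) (hsK : ∀ x ∈ K, s * x * s⁻¹ ∈ K)
    (hcore : ∀ N : Subgroup (MulAut V), N ≤ K → K ≤ normalizer (N : Set (MulAut V)) → IsPGroup r ↥N → N = ⊥)
    (hfix : ∀ k ∈ K, d * k = k * d → ∀ v, d v = v → k v = v) : ∀ k ∈ K, d * k = k * d := by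
  have hdK : ∀ x ∈ K, d * x * d⁻¹ ∈ K := fun x hx => by
    rw [← hs, show s * s * x * (s * s)⁻¹ = s * (s * x * s⁻¹) * s⁻¹ by group]
    exact hsK _ (hsK x hx)
  set N := ⁅K, zpowers d⁆ with hN
  have hNK : N ≤ K := commutator_le.2 fun g hg h hh => by
    obtain ⟨i, rfl⟩ := hh
    have hdn : d ∈ normalizer (K : Set (MulAut V)) :=
      Cfsg.Agent.Walter.Core.mem_normalizer_of_conj_le hdK
    rw [commutatorElement_def, mul_assoc g, mul_assoc g]
    exact mul_mem hg ((mem_normalizer_iff.1 (zpow_mem hdn i) g⁻¹).1 (inv_mem hg))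
  intro k hk
  by_contra hne
  have hNne : N ≠ ⊥ := fun e => hne (by
    have h1 : ⁅k, d⁆ ∈ N := commutator_mem_commutator hk (mem_zpowers d)
    rw [e, mem_bot, commutatorElement_eq_one_iff_mul_comm] at h1
    exact h1.symm)
  have hNn : ∀ a ∈ N, ∀ x ∈ K, x * a * x⁻¹ ∈ N := fun a ha x hx =>
    (mem_normalizer_iff.1 (normalizer_commutator_ge_left K (zpowers d) hx) a).1 ha
  have hNs : ∀ a ∈ N, s * a * s⁻¹ ∈ N := by
    have hle : N ≤ N.comap (MulAut.conj s).toMonoidHom := commutator_le.2 fun g hg h hh => by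
      obtain ⟨i, rfl⟩ := hh
      show s * ⁅g, d ^ i⁆ * s⁻¹ ∈ N
      rw [show s * ⁅g, d ^ i⁆ * s⁻¹ = ⁅s * g * s⁻¹, s * d ^ i * s⁻¹⁆ by simp [commutatorElement_def, mul_assoc]]
      refine commutator_mem_commutator (hsK g hg) ?_
      rw [← conj_zpow, ← hs, show s * (s * s) * s⁻¹ = s * s by group]
      exact zpow_mem (mem_zpowers _) i
    exact fun a ha => hle ha
  obtain ⟨A, ⟨hA0, hAN, hAK, hAs⟩, hmin⟩ := (Set.toFinite {A : Subgroup (MulAut V) | A ≠ ⊥ ∧ A ≤ N ∧
    (∀ a ∈ A, ∀ x ∈ K, x * a * x⁻¹ ∈ A) ∧ ∀ a ∈ A, s * a * s⁻¹ ∈ A}).exists_minimal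
      ⟨N, hNne, le_rfl, hNn, hNs⟩
  have hAleK : A ≤ K := hAN.trans hNK
  have hsolv : Group.IsSolvable ↥A := S0205.result (hK.of_dvd_nat (card_dvd_of_le hAleK))
  have hconj : ∀ (g : MulAut V), (∀ a ∈ A, g * a * g⁻¹ ∈ A) → ∀ c ∈ ⁅A, A⁆, g * c * g⁻¹ ∈ ⁅A, A⁆ := by
    intro g hg
    have hle : ⁅A, A⁆ ≤ ⁅A, A⁆.comap (MulAut.conj g).toMonoidHom := commutator_le.2 fun a ha b hb => by
      show g * ⁅a, b⁆ * g⁻¹ ∈ ⁅A, A⁆
      rw [show g * ⁅a, b⁆ * g⁻¹ = ⁅g * a * g⁻¹, g * b * g⁻¹⁆ by simp [commutatorElement_def, mul_assoc]]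
      exact commutator_mem_commutator (hg a ha) (hg b hb)
    exact fun c hc => hle hc
  have hlt := Coprime.commutator_lt_of_isSolvable hsolv hA0
  have hAA : ⁅A, A⁆ = ⊥ := by
    by_contra hne'
    exact hlt.not_ge (hmin ⟨hne', hlt.le.trans hAN, fun a ha x hx => hconj x (fun b hb => hAK b hb x hx) a ha,
      hconj s hAs⟩ hlt.le)
  have hAc : ∀ a ∈ A, ∀ b ∈ A, a * b = b * a := fun a ha b hb => commutatorElement_eq_one_iff_mul_comm.1
    (mem_bot.1 (hAA ▸ commutator_mem_commutator ha hb))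
  -- no elements of order five
  let Ar : Subgroup (MulAut V) :=
    { carrier := {a | a ∈ A ∧ a ^ r = 1}
      mul_mem' := fun {a b} ha hb => ⟨mul_mem ha.1 hb.1, by
        rw [(show Commute a b from hAc a ha.1 b hb.1).mul_pow, ha.2, hb.2, one_mul]⟩
      one_mem' := ⟨one_mem A, one_pow r⟩
      inv_mem' := fun {a} ha => ⟨inv_mem ha.1, by rw [inv_pow, ha.2, inv_one]⟩ }
  have hAr : Ar = ⊥ := by
    refine hcore Ar (fun a ha => hAleK ha.1)
      (fun x hx => Cfsg.Agent.Walter.Core.mem_normalizer_of_conj_le fun a ha =>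
        ⟨hAK a ha.1 x hx, by rw [conj_pow, ha.2, mul_one, mul_inv_cancel]⟩) ?_
    rintro ⟨a, ha⟩
    exact ⟨1, Subtype.ext (by simpa using ha.2)⟩
  have hord : ∀ a ∈ A, Odd (orderOf a) ∧ ¬ r ∣ orderOf a := fun a ha => by
    refine ⟨hK.of_dvd_nat (by rw [← Subgroup.orderOf_mk a (hAleK ha)]; exact orderOf_dvd_natCard _), ?_⟩
    rintro ⟨j, hj⟩
    have h1 : a ^ j ∈ Ar := ⟨pow_mem ha j, by rw [← pow_mul, mul_comm, ← hj, pow_orderOf_eq_one]⟩
    rw [hAr, mem_bot] at h1
    have hpos := orderOf_pos a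
    rw [hj] at hpos
    have := Nat.le_of_dvd (Nat.pos_of_mul_pos_left hpos) (orderOf_dvd_of_pow_eq_one h1)
    rw [hj] at this
    have h2 : 2 ≤ r := hr.out.two_le
    nlinarith [Nat.pos_of_mul_pos_left hpos]
  have hAd : ∀ a ∈ A, d * a * d⁻¹ ∈ A := fun a ha => by
    rw [← hs, show s * s * a * (s * s)⁻¹ = s * (s * a * s⁻¹) * s⁻¹ by group]
    exact hAs _ (hAs a ha)
  -- the inverted part
  let B : Subgroup (MulAut V) :=
    { carrier := {a | a ∈ A ∧ d * a * d⁻¹ = a⁻¹}
      mul_mem' := fun {a b} ha hb => ⟨mul_mem ha.1 hb.1, by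
        rw [show d * (a * b) * d⁻¹ = d * a * d⁻¹ * (d * b * d⁻¹) by group, ha.2, hb.2, mul_inv_rev,
          hAc _ (inv_mem ha.1) _ (inv_mem hb.1)]⟩
      one_mem' := ⟨one_mem A, by simp⟩
      inv_mem' := fun {a} ha => ⟨inv_mem ha.1, by
        rw [show d * a⁻¹ * d⁻¹ = (d * a * d⁻¹)⁻¹ by group, ha.2]⟩ }
  have hB : B = ⊥ := inverted_trivial hV hodd hd hs hsd (fun x hx => hx.2) (fun x hx =>
    ⟨hAs x hx.1, by
      rw [show d * (s * x * s⁻¹) * d⁻¹ = s * (d * x * d⁻¹) * s⁻¹ by rw [← hs]; group, hx.2]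
      group⟩) fun x hx => hord x hx.1
  have hdi : d⁻¹ = d := inv_eq_of_mul_eq_one_right hd
  have hAfix : ∀ a ∈ A, d * a = a * d := fun a ha => by
    have h1 : d * a * d⁻¹ * a⁻¹ ∈ B := ⟨mul_mem (hAd a ha) (inv_mem ha), by
      rw [hdi, mul_inv_rev, inv_inv, show d * (d * a * d * a⁻¹) * d = d * d * a * (d * a⁻¹ * d) by group, hd,
        one_mul, mul_inv_rev, mul_inv_rev, hdi, mul_assoc d a⁻¹ d]⟩
    rw [hB, mem_bot, mul_inv_eq_one, mul_inv_eq_iff_eq_mul] at h1
    exact h1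
  -- the moved vectors are inverted by `d`
  have hdU : ∀ a ∈ A, ∀ v, d (a v / v) = (a v / v)⁻¹ := fun a ha v => by
    have hdd : ∀ u, d (d u) = u := fun u => by rw [← MulAut.mul_apply, hd, MulAut.one_apply]
    have h1 : a (v * d v) = v * d v := hfix a (hAleK ha) (hAfix a ha) _ (by rw [map_mul, hdd, mul_comm])
    rw [map_mul] at h1
    rw [map_div, show d (a v) = a (d v) from congrArg (fun f : MulAut V => f v) (hAfix a ha), inv_div, div_eq_div_iff_mul_eq_mul,
      mul_comm (a (d v)), h1]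
  let F : Subgroup (MulAut V) :=
    { carrier := {g | ∀ a ∈ A, ∀ v, g (a v / v) = a v / v}
      mul_mem' := fun {g g'} h h' a ha v => by rw [MulAut.mul_apply, h' a ha v, h a ha v]
      one_mem' := fun a _ v => rfl
      inv_mem' := fun {g} h a ha v => by
        conv_lhs => rw [← h a ha v]
        rw [inv_app] }
  have hNF : N ≤ F := by
    refine commutator_le.2 fun g hg h' hh => ?_
    obtain ⟨i, rfl⟩ := hh
    intro a ha v
    beta_reduce
    have himg : g⁻¹ (a v / v) = (g⁻¹ * a * g⁻¹⁻¹) (g⁻¹ v) / g⁻¹ v := by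
      rw [map_div, inv_inv, MulAut.mul_apply, MulAut.mul_apply, app_inv]
    have hiu := hdU _ (hAK a ha g⁻¹ (inv_mem hg)) (g⁻¹ v)
    rw [← himg] at hiu
    have hu := hdU a ha v
    have h2 : d ^ i = 1 ∨ d ^ i = d := by
      rcases Int.even_or_odd i with ⟨m, rfl⟩ | ⟨m, rfl⟩
      · left; rw [← two_mul, zpow_mul, zpow_two, hd, one_zpow]
      · right; rw [zpow_add, zpow_mul, zpow_two, hd, one_zpow, zpow_one, one_mul]
    rcases h2 with e | e
    · rw [e]; simp [commutatorElement_def]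
    rw [e, commutatorElement_def, hdi, MulAut.mul_apply, MulAut.mul_apply, MulAut.mul_apply, hu, map_inv,
      map_inv, hiu, inv_inv, app_inv]
  refine hA0 ((eq_bot_iff_forall A).2 fun a ha => MulEquiv.ext fun v => ?_)
  rw [MulAut.one_apply, ← div_eq_one]
  refine eq_one_of_translate hV (v := v) (hord a ha).2 (hNF (hAN ha) a ha v) ?_
  rw [div_mul_cancel]

end Cfsg.Agent.OddTranspX.Kill
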