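import Cfsg.Agent.Lib.OddTranspX.Kill.Core

/-!
# The commutator with `d` and an invariant Sylow subgroup

In an odd group `Q` as in `QData` the intersection of `⁅Q, d⁆` with an invariant Sylow `r`-subgroup `R` is
`⁅R, d⁆`.
-/

set_option autoImplicit false
set_option linter.unusedSectionVars false
set_option linter.style.haveILetI false

open Subgroup
open scoped commutatorElement

namespace Cfsg.Agent.OddTranspX.Kill

universe u

variable {r : ℕ} [hr : Fact r.Prime]

/-- The statement when `Q` is normal in the ambient group. -/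
theorem mem_commutator_of_normal {M : Type u} [Group M] [Finite M] {Q R : Subgroup M} [Q.Normal] {s d : M}
    (h : QData Q s d) (hr2 : r ≠ 2) (hRQ : R ≤ Q) (hR : IsPGroup r R) (hidx : ¬ r ∣ R.relIndex Q)
    (hRs : ∀ x ∈ R, s * x * s⁻¹ ∈ R) {x : M} (hx : x ∈ ⁅Q, zpowers d⁆) (hxR : x ∈ R) :
    x ∈ ⁅R, zpowers d⁆ := by
  classical
  set O := (Cfsg.pPrimeCore r ↥Q).map Q.subtype with hO
  haveI : (Cfsg.pPrimeCore r ↥Q).Characteristic := Cfsg.Agent.Cores.pPrimeCore_characteristic r
  haveI : O.Normal := inferInstance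
  have hOQ : O ≤ Q := map_subtype_le _
  have hOc : (Nat.card O).Coprime r := by
    rw [hO, Subgroup.card_map_of_injective Q.subtype_injective]
    exact Cfsg.Agent.Cores.pPrimeCore_card_coprime r
  set f := QuotientGroup.mk' O with hf
  have hsurj : Function.Surjective f := QuotientGroup.mk'_surjective O
  set Qb := Q.map f with hQb
  have hdR : zpowers d ≤ normalizer (R : Set M) := zpowers_le.2
    (Cfsg.Agent.Walter.Core.mem_normalizer_of_conj_le fun y hy => by
      rw [← h.sq, show s * s * y * (s * s)⁻¹ = s * (s * y * s⁻¹) * s⁻¹ by group]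
      exact hRs _ (hRs y hy))
  -- fixed elements lift
  have hlift : ∀ y ∈ Qb, f d * y = y * f d → ∃ x ∈ Q, f x = y ∧ d * x = x * d := by
    rintro _ ⟨y, hy, rfl⟩ hc
    obtain ⟨n, hn, hyn⟩ := Coprime.exists_fixed_in_coset (k := y)
      (zpowers_le.2 (normalizer_eq_top O ▸ mem_top d)) (h.coprime hOQ) (Or.inl h.solvable) (fun a ha => by
        rcases mem_zpowers_d h.dd ha with rfl | rfl
        · simp [one_mem]
        · refine (QuotientGroup.eq_one_iff _).1 ?_
          show f (y⁻¹ * (a * y * a⁻¹)) = 1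
          rw [map_mul, map_mul, map_mul, map_inv, map_inv, hc, mul_inv_cancel_right, inv_mul_cancel])
    refine ⟨y * n, mul_mem hy (hOQ hn), ?_, mem_centralizer_iff.1 hyn d (mem_zpowers d)⟩
    rw [map_mul, show f n = 1 from (QuotientGroup.eq_one_iff n).2 hn, mul_one]
  have hdat : QData Qb (f s) (f d) :=
    { odd := h.odd.of_dvd_nat (card_map_dvd _ _)
      sq := by rw [← map_mul, h.sq]
      dd := by rw [← map_mul, h.dd, map_one]
      norm := by
        rintro _ ⟨y, hy, rfl⟩
        exact ⟨s * y * s⁻¹, h.norm y hy, by simp⟩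
      fix := fun y hy hc => by
        obtain ⟨x, hx, rfl, hxd⟩ := hlift y hy hc
        rw [← map_mul, ← map_mul, h.fix x hx hxd]
      ab := fun y hy hc y' hy' hc' => by
        obtain ⟨x, hx, rfl, hxd⟩ := hlift y hy hc
        obtain ⟨x', hx', rfl, hxd'⟩ := hlift y' hy' hc'
        rw [← map_mul, ← map_mul, h.ab x hx hxd x' hx' hxd'] }
  -- no `r'`-core upstairs
  have hcore : Cfsg.pPrimeCore r ↥Qb = ⊥ := by
    refine le_bot_iff.1 (Cfsg.Agent.Cores.pPrimeCore_le fun N hN hc => ?_)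
    set Nh := (N.map Qb.subtype).comap f ⊓ Q with hNh
    haveI hNhn : (Nh.subgroupOf Q).Normal := ⟨fun y hy g => by
      obtain ⟨⟨n, hn, hne⟩, -⟩ := hy
      refine ⟨⟨_, hN.conj_mem n hn ⟨f g, mem_map_of_mem f g.2⟩, ?_⟩, ((g * y * g⁻¹ : ↥Q)).2⟩
      show f g * (Qb.subtype n) * (f g)⁻¹ = f (g * y * g⁻¹)
      rw [hne]
      simp⟩
    have hle : Nh.subgroupOf Q ≤ Cfsg.pPrimeCore r ↥Q := by
      refine Cfsg.Agent.Cores.le_pPrimeCore (Nat.Coprime.coprime_dvd_left ?_ (hOc.mul_left hc))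
      rw [Nat.card_congr (Subgroup.subgroupOfEquivOfLe (show Nh ≤ Q from inf_le_right)).toEquiv]
      refine (card_dvd_of_le (show Nh ≤ (N.map Qb.subtype).comap f from inf_le_left)).trans ?_
      have h2 : ((N.map Qb.subtype).comap f).map f = N.map Qb.subtype :=
        map_comap_eq_self_of_surjective hsurj _
      have h3 : (((N.map Qb.subtype).comap f).map f) = N.map Qb.subtype := h2
      rw [← card_mul_index (O.subgroupOf ((N.map Qb.subtype).comap f))]
      refine Nat.mul_dvd_mul ?_ (dvd_of_eq ?_)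
      · rw [Nat.card_congr (Subgroup.subgroupOfEquivOfLe (fun o ho => by
          refine mem_comap.2 ?_
          rw [show f o = 1 from (QuotientGroup.eq_one_iff o).2 ho]; exact one_mem _)).toEquiv]
      · show O.relIndex ((N.map Qb.subtype).comap f) = _
        have h4 := Subgroup.relIndex_ker f (K := (N.map Qb.subtype).comap f)
        rw [QuotientGroup.ker_mk', h2, Subgroup.card_map_of_injective Qb.subtype_injective] at h4
        exact h4
    intro n hn
    obtain ⟨y, hy, hyn⟩ := n.2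
    have h1 : (⟨y, hy⟩ : ↥Q) ∈ Nh.subgroupOf Q := ⟨⟨n, hn, hyn.symm⟩, hy⟩
    refine Subtype.ext ?_
    show (n : M ⧸ O) = 1
    rw [← hyn]
    exact (QuotientGroup.eq_one_iff y).2 ⟨⟨y, hy⟩, hle h1, rfl⟩
  have hkey := hdat.commutator_le_core hr2 hcore
  -- the core lies in the image of `R`
  set Rb := R.map f with hRb
  have hRbQ : Rb ≤ Qb := map_mono hRQ
  have hcoreR : (Cfsg.pCore r ↥Qb).map Qb.subtype ≤ Rb := by
    haveI hPn : (Cfsg.pCore r ↥Qb).Normal := Cfsg.Agent.Cores.pCore_normal r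
    have hRbp : IsPGroup r (Rb.subgroupOf Qb) :=
      (hR.map f).comap_of_injective Qb.subtype Subtype.coe_injective
    have hidx' : ¬ r ∣ (Rb.subgroupOf Qb).index := fun hd =>
      hidx (hd.trans (by
        show Rb.relIndex Qb ∣ R.relIndex Q
        rw [hRb, hQb, relIndex_map_map, QuotientGroup.ker_mk', sup_eq_left.2 hOQ]
        exact relIndex_dvd_of_le_left Q le_sup_left))
    rintro _ ⟨p, hp, rfl⟩
    exact IsPGroup.le_sylow_of_normal (Cfsg.Agent.Cores.pCore_isPGroup r) (hRbp.toSylow hidx') hp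
  have hb : ⁅Qb, zpowers (f d)⁆ ≤ ⁅Rb, zpowers (f d)⁆ := by
    rw [← Coprime.commutator_commutator_eq hdat.d_norm (hdat.coprime le_rfl) (Or.inl hdat.solvable)]
    exact commutator_mono (hkey.trans hcoreR) le_rfl
  have hfx : f x ∈ ⁅R, zpowers d⁆.map f := by
    rw [map_commutator, ← hRb, MonoidHom.map_zpowers]
    refine hb ?_
    rw [hQb, ← MonoidHom.map_zpowers, ← map_commutator]
    exact mem_map_of_mem f hx
  obtain ⟨a, ha, hax⟩ := hfx
  have hle : ⁅R, zpowers d⁆ ≤ R := Coprime.commutator_le_of_le_normalizer hdR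
  have ho : a⁻¹ * x ∈ O := by
    rw [← QuotientGroup.eq_one_iff]
    show f (a⁻¹ * x) = 1
    rw [map_mul, map_inv, hax, inv_mul_cancel]
  have hoR : a⁻¹ * x ∈ R := mul_mem (inv_mem (hle ha)) hxR
  have h1 : a⁻¹ * x = 1 := by
    obtain ⟨k, hk⟩ := IsPGroup.iff_orderOf.1 hR ⟨_, hoR⟩
    rw [Subgroup.orderOf_mk] at hk
    rw [← orderOf_eq_one_iff]
    refine Nat.eq_one_of_dvd_coprimes (hOc.pow_right k) (O.orderOf_dvd_natCard ho) ?_
    rw [hk]
  rwa [inv_mul_eq_one.1 h1] at ha

/-- The intersection of the commutator with an invariant Sylow subgroup. -/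
theorem QData.mem_commutator {G : Type u} [Group G] [Finite G] {Q R : Subgroup G} {s d : G}
    (h : QData Q s d) (hr2 : r ≠ 2) (hRQ : R ≤ Q) (hR : IsPGroup r R) (hidx : ¬ r ∣ R.relIndex Q)
    (hRs : ∀ x ∈ R, s * x * s⁻¹ ∈ R) {x : G} (hx : x ∈ ⁅Q, zpowers d⁆) (hxR : x ∈ R) :
    x ∈ ⁅R, zpowers d⁆ := by
  set M := normalizer (Q : Set G)
  have hQM : Q ≤ M := le_normalizer
  have hsM : s ∈ M := Cfsg.Agent.Walter.Core.mem_normalizer_of_conj_le h.norm
  have hdM : d ∈ M := h.sq ▸ mul_mem hsM hsM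
  haveI : (Q.subgroupOf M).Normal := normal_in_normalizer
  have hc : Nat.card (Q.subgroupOf M) = Nat.card Q := Nat.card_congr (Subgroup.subgroupOfEquivOfLe hQM).toEquiv
  have hdat : QData (Q.subgroupOf M) (⟨s, hsM⟩ : M) (⟨d, hdM⟩ : M) :=
    { odd := hc ▸ h.odd
      sq := Subtype.ext h.sq
      dd := Subtype.ext h.dd
      norm := fun y hy => h.norm _ hy
      fix := fun y hy hy' => Subtype.ext (h.fix _ hy (congrArg Subtype.val hy'))
      ab := fun y hy hy' y' hy1 hy1' => Subtype.ext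
        (h.ab _ hy (congrArg Subtype.val hy') _ hy1 (congrArg Subtype.val hy1')) }
  have key : ∀ A : Subgroup G, A ≤ M →
      (⁅A.subgroupOf M, zpowers (⟨d, hdM⟩ : M)⁆).map M.subtype = ⁅A, zpowers d⁆ := fun A hA => by
    rw [map_commutator, map_subgroupOf_eq_of_le hA, MonoidHom.map_zpowers]; rfl
  have hRM : R ≤ M := hRQ.trans hQM
  rw [← key Q hQM] at hx
  obtain ⟨x', hx', rfl⟩ := hx
  rw [← key R hRM]
  refine mem_map_of_mem _ (mem_commutator_of_normal hdat hr2 ?_ ?_ ?_ (fun y hy => hRs _ hy) hx' hxR)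
  · exact fun y hy => hRQ hy
  · exact hR.comap_of_injective M.subtype Subtype.coe_injective
  · rw [Subgroup.relIndex_subgroupOf hQM]; exact hidx

end Cfsg.Agent.OddTranspX.Kill
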